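import Cfsg.Agent.Lib.Sporadic.FiTransfer.TwoCentral.Pair

/-!
An upper bound for the order of the centraliser of the involution.
-/

set_option autoImplicit false
set_option maxRecDepth 100000

open Cfsg.Spor Subgroup

namespace CfsgLib.Sporadic.FiTransfer.TwoCentral

open CosetCert CosetCert.FiP CosetCert.FiP.OutFi22
open CosetCert.FiData (table)

attribute [local irreducible] PTab.img symAt

/-- The automorphisms fixing both points. -/
noncomputable def fixPair : Subgroup (MulAut Fi22) :=
  ((MulAction.stabilizer (Equiv.Perm (Fin table.N)) uP) ⊓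
    (MulAction.stabilizer (Equiv.Perm (Fin table.N)) vP)).comap pm

theorem mem_fixPair {α : MulAut Fi22} : α ∈ fixPair ↔ pm α uP = uP ∧ pm α vP = vP := Iff.rfl

theorem fixPair_index : 3510 * 693 ≤ fixPair.index := by
  classical
  have := finite_aut
  obtain ⟨O, hO, e₁, hc₁⟩ := suborbit (b := 6) (by decide +kernel) FiData.search693_ok
  rw [show FiData.search693.length = 692 by decide +kernel] at hc₁
  have hk : ∀ o : O, ∃ k ∈ grpH, hom k vP = o.1 := by
    intro o
    obtain ⟨⟨π, hπ⟩, he⟩ := (Set.ext_iff.1 hO o.1).1 o.2
    obtain ⟨k, hk, rfl⟩ := Subgroup.mem_map.1 hπ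
    refine ⟨k, hk, ?_⟩
    rw [← show hom k (⟨6, by decide +kernel⟩ : Fin table.N) = o.1 from he]
    exact congrArg _ (Fin.ext vP_val)
  choose k hk hkv using hk
  choose c hc using fun u => transitive u
  have hu : uP = pt := Fin.ext uP_val
  let f : Fin table.N × O → MulAut Fi22 ⧸ fixPair := fun a => QuotientGroup.mk (MulAut.conj (c a.1 * k a.2))
  have hf : Function.Injective f := by
    rintro ⟨a, o⟩ ⟨a', o'⟩ h
    have h' := mem_fixPair.1 ((QuotientGroup.eq).1 h)
    obtain ⟨h1, h2⟩ := h'
    replace h1 := congrArg (pm (MulAut.conj (c a * k o))) h1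
    replace h2 := congrArg (pm (MulAut.conj (c a * k o))) h2
    rw [← Equiv.Perm.mul_apply, ← map_mul, mul_inv_cancel_left, pm_conj, pm_conj, map_mul, map_mul,
      Equiv.Perm.mul_apply, Equiv.Perm.mul_apply] at h1 h2
    rw [hu, hom_fix _ (hk o'), hom_fix _ (hk o), hc, hc] at h1
    have ea : a' = a := h1
    subst ea
    rw [hkv o', hkv o] at h2
    exact Prod.ext rfl (Subtype.ext ((hom (c a')).injective h2).symm)
  have h := Nat.card_le_card_of_injective f hf
  rw [Nat.card_prod, Nat.card_fin, Nat.card_eq_fintype_card, Fintype.card_coe, hc₁] at h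
  exact h

theorem card_fixPair_le : Nat.card fixPair ≤ 53084160 := by
  have := finite_aut
  have h := fixPair.card_mul_index.trans_le card_aut_le
  by_contra hlt
  rw [not_le] at hlt
  have : 53084161 * (3510 * 693) ≤ Nat.card fixPair * fixPair.index := Nat.mul_le_mul hlt fixPair_index
  omega

theorem card_cent_le : Nat.card (centralizer ({jT} : Set (MulAut Fi22))) ≤ 106168320 := by
  classical
  have := finite_aut
  set C := centralizer ({jT} : Set (MulAut Fi22))
  have hidx : fixPair.relIndex C ≤ 2 := by
    rw [relIndex, index]
    let g : C ⧸ fixPair.subgroupOf C → Bool :=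
      Quotient.lift (fun α => decide (pm α.1 uP = uP)) fun α β h => by
        have h' := mem_fixPair.1 (mem_subgroupOf.1 (QuotientGroup.leftRel_apply.1 h))
        have h1 : pm β.1 uP = pm α.1 uP := by
          have := congrArg (pm α.1) h'.1
          rwa [← Equiv.Perm.mul_apply, ← map_mul, coe_mul, coe_inv, mul_inv_cancel_left] at this
        show decide (pm α.1 uP = uP) = decide (pm β.1 uP = uP)
        rw [h1]
    have hg : Function.Injective g := by
      intro a b
      induction a using QuotientGroup.induction_on with
      | H α =>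
        induction b using QuotientGroup.induction_on with
        | H β =>
          intro h
          have h' : (pm α.1 uP = uP) ↔ (pm β.1 uP = uP) := decide_eq_decide.1 h
          have hu : pm α.1 uP = pm β.1 uP := by
            rcases pm_pair α.2 uP (Or.inl rfl) with e | e <;> rcases pm_pair β.2 uP (Or.inl rfl) with e' | e'
            · rw [e, e']
            · exact absurd ((h'.1 e).symm.trans e') uP_ne_vP
            · exact absurd ((h'.2 e').symm.trans e) uP_ne_vP
            · rw [Set.mem_singleton_iff.1 e, Set.mem_singleton_iff.1 e']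
          have hv : pm α.1 vP = pm β.1 vP := by
            have ha := pm_pair α.2 vP (Or.inr rfl)
            have hb := pm_pair β.2 vP (Or.inr rfl)
            have n1 : pm α.1 vP ≠ pm α.1 uP := fun e => uP_ne_vP ((pm α.1).injective e).symm
            have n2 : pm β.1 vP ≠ pm β.1 uP := fun e => uP_ne_vP ((pm β.1).injective e).symm
            rw [← hu] at n2
            rcases pm_pair α.2 uP (Or.inl rfl) with e | e <;> rcases ha with e1 | e1 <;>
              rcases hb with e2 | e2 <;>
              first
              | exact e1.trans e2.symm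
              | exact absurd (e1.trans e.symm) n1
              | exact absurd (e2.trans e.symm) n2
          refine QuotientGroup.eq.2 (mem_subgroupOf.2 (mem_fixPair.2 ⟨?_, ?_⟩))
          · rw [coe_mul, coe_inv, map_mul, map_inv, Equiv.Perm.mul_apply, ← hu, Equiv.Perm.inv_def,
              Equiv.symm_apply_apply]
          · rw [coe_mul, coe_inv, map_mul, map_inv, Equiv.Perm.mul_apply, ← hv, Equiv.Perm.inv_def,
              Equiv.symm_apply_apply]
    have := Nat.card_le_card_of_injective g hg
    simpa using this
  have h := (fixPair.subgroupOf C).card_mul_index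
  have h2 : Nat.card (fixPair.subgroupOf C) ≤ Nat.card fixPair :=
    Nat.card_le_card_of_injective (fun α => (⟨α.1.1, mem_subgroupOf.1 α.2⟩ : fixPair))
      fun a b e => Subtype.ext (Subtype.ext (congrArg (fun x : fixPair => x.1) e))
  rw [← h]
  calc _ ≤ 53084160 * 2 := Nat.mul_le_mul (h2.trans card_fixPair_le) hidx
    _ = 106168320 := by norm_num

end CfsgLib.Sporadic.FiTransfer.TwoCentral
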