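import Cfsg.Agent.Lib.Sporadic.FiTransfer.TwoCentral.Symplectic
import Cfsg.Agent.Lib.Components.GenFitting

/-!
The centraliser of an involution which is an extraspecial 2-group by an almost simple group.
-/

set_option autoImplicit false

open Subgroup

namespace CfsgLib.Sporadic.FiTransfer.TwoCentral

theorem not_nilpotent {L : Type*} [Group L] [Nontrivial L] (hL : commutator L = ⊤) :
    ¬ Group.IsNilpotent L := by
  intro h
  haveI : Group.IsSolvable L := inferInstance
  exact (Group.IsSolvable.commutator_lt_top_of_nontrivial (G := L)).ne hL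

theorem centralizer_structure {A : Type*} [Group A] [Finite A] {j : A} {x y : Fin 5 → A}
    (h : Basis j x y) {B : Type*} [Group B] (θ : centralizer ({j} : Set A) →* B)
    (hker : (span j x y).subgroupOf (centralizer ({j} : Set A)) = θ.ker)
    (L : Subgroup θ.range) [L.Normal] [IsSimpleGroup L] (hLp : commutator L = ⊤)
    (hLc : centralizer (L : Set θ.range) = ⊥) (w : centralizer ({j} : Set A))
    (hwL : θ.rangeRestrict w ∈ L) (hw0 : (w : A) * x 0 * (w : A)⁻¹ ≠ x 0 ∧ (w : A) * x 0 * (w : A)⁻¹ ≠ x 0 * j)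
    (hA : Nat.card A < 3 ^ 32) (Q : Subgroup A)
    (hQ : Q = (Cfsg.generalizedFittingSubgroup ↥(centralizer ({j} : Set A))).map
      (centralizer ({j} : Set A)).subtype) :
    Cfsg.IsLargeExtraspecial Q ∧ Nat.card Q = 2 ^ 11 ∧ Q ≤ centralizer ({j} : Set A) ∧
      ∃ (_ : (Q.subgroupOf (centralizer ({j} : Set A))).Normal),
        Nonempty (↥(centralizer ({j} : Set A)) ⧸ Q.subgroupOf (centralizer ({j} : Set A)) ≃* θ.range) := by
  classical
  set S := span j x y with hS
  obtain ⟨hcard, hcoord⟩ := h.exists_coord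
  have hSC : S ≤ (centralizer ({j} : Set A)) := fun q hq => mem_centralizer_singleton_iff.2 (h.j_central hq)
  set Qc := S.subgroupOf (centralizer ({j} : Set A)) with hQc
  haveI hQn : Qc.Normal := hker ▸ inferInstance
  have hQnil : Group.IsNilpotent Qc :=
    (IsPGroup.of_card (p := 2) (n := 11) (by
      rw [Nat.card_congr (subgroupOfEquivOfLe hSC).toEquiv, hcard])).isNilpotent
  -- a normal subgroup outside the kernel covers the simple group
  have hmin : ∀ N : Subgroup (centralizer ({j} : Set A)), N.Normal → ¬ N ≤ Qc → L ≤ N.map θ.rangeRestrict := by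
    intro N hN hle
    haveI : (N.map θ.rangeRestrict).Normal := hN.map _ θ.rangeRestrict_surjective
    rcases Subgroup.Normal.eq_bot_or_eq_top
      (inferInstance : ((N.map θ.rangeRestrict).subgroupOf L).Normal) with e | e
    · exfalso
      apply hle
      have hinf : N.map θ.rangeRestrict ⊓ L = ⊥ := by
        exact disjoint_iff.1 (subgroupOf_eq_bot.1 e)
      have hc : N.map θ.rangeRestrict ≤ centralizer (L : Set θ.range) := by
        intro m hm
        rw [mem_centralizer_iff]
        intro l hl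
        exact (Subgroup.commute_of_normal_of_disjoint _ L inferInstance inferInstance
          (disjoint_iff.2 hinf) m l hm hl).eq.symm
      rw [hLc, le_bot_iff, Subgroup.map_eq_bot_iff, MonoidHom.ker_rangeRestrict, ← hker] at hc
      exact hc
    · exact subgroupOf_eq_top.1 e
  -- the kernel contains its centraliser
  have hcent : centralizer (Qc : Set (centralizer ({j} : Set A))) ≤ Qc := by
    by_contra hle
    obtain ⟨c, hc, hcw⟩ := hmin _ inferInstance hle hwL
    have hk : c⁻¹ * w ∈ Qc := by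
      rw [hker, MonoidHom.mem_ker, map_mul, map_inv, inv_mul_eq_one]
      exact congrArg Subtype.val hcw
    have hq : ((c : A)⁻¹ * (w : A)) ∈ S := mem_subgroupOf.1 hk
    have hfix : ∀ q ∈ S, (c : A) * q * (c : A)⁻¹ = q := by
      intro q hq
      have := congrArg Subtype.val (mem_centralizer_iff.1 hc ⟨q, hSC hq⟩ (mem_subgroupOf.2 hq))
      simp only [coe_mul] at this
      rw [← this, mul_inv_cancel_right]
    have hx0 : x 0 ∈ S := mem_x 0
    have e : (w : A) * x 0 * (w : A)⁻¹ =
        (c : A) * (((c : A)⁻¹ * w) * x 0 * ((c : A)⁻¹ * w)⁻¹) * (c : A)⁻¹ := by group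
    rw [hfix _ (mul_mem (mul_mem hq hx0) (inv_mem hq))] at e
    rcases h.comm_mem hq hx0 with h1 | h1
    · refine hw0.1 (e.trans ?_)
      exact mul_inv_eq_one.1 h1
    · refine hw0.2 (e.trans ?_)
      rw [mul_inv_eq_iff_eq_mul.1 h1, ← h.j_central hx0]
  have hfit : Cfsg.fittingSubgroup (centralizer ({j} : Set A)) = Qc := by
    refine le_antisymm ?_ (CfsgLib.Solvable.Cores.le_fittingSubgroup hQnil)
    by_contra hle
    have hL' := hmin _ inferInstance hle
    haveI : Group.IsNilpotent ((Cfsg.fittingSubgroup (centralizer ({j} : Set A))).map θ.rangeRestrict) :=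
      Group.nilpotent_of_surjective _ ((θ.rangeRestrict).subgroupMap_surjective _)
    exact not_nilpotent hLp (Group.nilpotent_of_mulEquiv (subgroupOfEquivOfLe hL'))
  have hgen : Cfsg.generalizedFittingSubgroup (centralizer ({j} : Set A)) = Qc := by
    show Cfsg.layer (centralizer ({j} : Set A)) ⊔ Cfsg.fittingSubgroup (centralizer ({j} : Set A)) = Qc
    rw [hfit, sup_eq_right]
    refine CfsgLib.Components.layer_le_centralizer_fitting.trans ?_
    rw [hfit]
    exact hcent
  have hQS : Q = S := by rw [hQ, hgen, hQc, subgroupOf_map_subtype, inf_eq_left.2 hSC]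
  subst hQS
  have hcS : ∀ a ∈ S, (∀ q ∈ S, a * q = q * a) → a = 1 ∨ a = j := fun a ha hq =>
    hcoord a ha (fun i => hq _ (mem_x i)) (fun i => hq _ (mem_y i))
  have hjS : j ∈ S := mem_j
  have hmapc : (center S).map S.subtype = zpowers j := by
    ext a
    rw [h.zpowers_cases]
    constructor
    · rintro ⟨z, hz, rfl⟩
      exact hcS z z.2 fun q hq => (congrArg Subtype.val (mem_center_iff.1 hz ⟨q, hq⟩)).symm
    · intro ha
      have haS : a ∈ S := by rcases ha with rfl | rfl; exacts [one_mem _, hjS]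
      exact ⟨⟨a, haS⟩, h.Z_central (h.zpowers_cases.2 ha), rfl⟩
  have hcA : ∀ a, (∀ q ∈ S, q * a = a * q) → a = 1 ∨ a = j := by
    intro a ha
    have haC : a ∈ (centralizer ({j} : Set A)) := mem_centralizer_singleton_iff.2 (ha j hjS).symm
    have h1 : (⟨a, haC⟩ : (centralizer ({j} : Set A))) ∈ centralizer (Qc : Set (centralizer ({j} : Set A))) :=
      mem_centralizer_iff.2 fun q hq => Subtype.ext (ha q.1 (mem_subgroupOf.1 hq))
    exact hcS a (mem_subgroupOf.1 (hcent h1)) fun q hq => (ha q hq).symm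
  have hext := h.isExtraspecial
  refine ⟨⟨hext, le_antisymm ?_ ?_, ?_, ?_⟩, hcard, hSC, hQn,
    ⟨(QuotientGroup.quotientMulEquivOfEq hker).trans (QuotientGroup.quotientKerEquivRange θ)⟩⟩
  · intro a ha
    rw [hmapc, h.zpowers_cases]
    exact hcA a (mem_centralizer_iff.1 ha)
  · rw [hmapc, zpowers_le]
    exact mem_centralizer_iff.2 fun q hq => h.j_central hq
  · intro a ha
    have haC : a ∈ (centralizer ({j} : Set A)) := mem_centralizer_singleton_iff.2
      ((mem_centralizer_iff.1 ha j (hmapc ▸ mem_zpowers j)).symm)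
    rw [mem_normalizer_iff]
    intro q
    constructor
    · intro hq
      exact mem_subgroupOf.1 (hQn.conj_mem ⟨q, hSC hq⟩ (mem_subgroupOf.2 hq) ⟨a, haC⟩)
    · intro hq
      have := mem_subgroupOf.1 (hQn.conj_mem ⟨_, hSC hq⟩ (mem_subgroupOf.2 hq) ⟨a, haC⟩⁻¹)
      simpa [mul_assoc] using this
  · intro K hK hn
    by_contra hne
    have hnK : ∀ q ∈ S, ∀ k ∈ K, q * k * q⁻¹ ∈ K := fun q hq k hk =>
      (mem_normalizer_iff.1 (hn hq) k).1 hk
    have hcop : ∀ a, a ∈ K → a ∈ S → a = 1 := by
      intro a haK haS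
      have h1 : orderOf a ∣ Nat.card K := Subgroup.orderOf_dvd_natCard K haK
      have h2 : orderOf a ∣ 2 ^ 11 := hcard ▸ Subgroup.orderOf_dvd_natCard S haS
      refine orderOf_eq_one_iff.1 (Nat.eq_one_of_dvd_coprimes ?_ h1 h2)
      exact Nat.Coprime.pow_right _ (Nat.coprime_two_right.2 hK)
    have hfree : ∀ k ∈ K, j * k * j⁻¹ = k → k = 1 := by
      intro k hk hkj
      have hkC : k ∈ (centralizer ({j} : Set A)) := mem_centralizer_singleton_iff.2 (mul_inv_eq_iff_eq_mul.1 hkj).symm
      have hcomm : ∀ q ∈ S, q * k = k * q := by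
        intro q hq
        have e1 : q * k * q⁻¹ * k⁻¹ ∈ K := mul_mem (hnK q hq k hk) (inv_mem hk)
        have e2 : q * k * q⁻¹ * k⁻¹ ∈ S := by
          have := mem_subgroupOf.1 (hQn.conj_mem ⟨q⁻¹, hSC (inv_mem hq)⟩
            (mem_subgroupOf.2 (inv_mem hq)) ⟨k, hkC⟩)
          have h3 := mul_mem hq this
          simpa [mul_assoc] using h3
        exact mul_inv_eq_iff_eq_mul.1 (mul_inv_eq_one.1 (hcop _ e1 e2))
      rcases hcA k hcomm with e | e
      · exact e
      · exact hcop k hk (e ▸ hjS)
    exact absurd ((h.card_ge_of_fixedFree hK hnK hfree hne).trans (Nat.card_le_card_of_injective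
      K.subtype K.subtype_injective)) (not_le.2 hA)

end CfsgLib.Sporadic.FiTransfer.TwoCentral
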