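import Cfsg.Agent.Lib.Sporadic.FiTransfer.TwoCentral.Gens
import Cfsg.Agent.Lib.Sporadic.FiTransfer.TwoCentral.Centralizer
import Cfsg.Agent.Lib.Sporadic.FiTransfer.TwoCentral.Counting
import Cfsg.Agent.Lib.Classical.SympMatrixSimple
import Cfsg.Agent.Lib.KnownC.AutPSU.Outer

/-!
The structure of the centraliser of a product of two commuting transpositions in the automorphism
group of Fi22.
-/

set_option autoImplicit false
set_option maxRecDepth 100000

open Cfsg.Spor Subgroup

namespace CfsgLib.Sporadic.FiTransfer.TwoCentral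

open CosetCert CosetCert.FiP CosetCert.FiP.OutFi22
open CosetCert.FiData (table)
open CfsgLib.Classical.PSpThree (perms exists_psp)

attribute [local irreducible] PTab.img symAt

theorem cover : ∀ v : Fin 40, (v : ℕ) ∈ wIx ∨ ∃ d ∈ cDer, d.1 = (v : ℕ) := by decide +kernel

/-- The derivation only uses earlier generators. -/
def orderK : List (ℕ × ℕ × ℕ) → List ℕ → Bool
  | [], _ => true
  | d :: r, seen => seen.contains d.2.1 && seen.contains d.2.2 && Nat.blt d.1 40 && orderK r (d.1 :: seen)

theorem order_ok : orderK cDer wIx = true := by decide +kernel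

section Abstract

variable {c : Fin 40 → Equiv.Perm (Fin 40)} (hc : ∀ v i, c v i = perms v i)

include hc

theorem c_val (v i : Fin 40) : (c v i : ℕ) = (cRows.getD v []).getD i 40 := by rw [hc, perms_rows]

theorem derived (K : Subgroup (Equiv.Perm (Fin 40))) : ∀ (l : List (ℕ × ℕ × ℕ)) (seen : List ℕ),
    (∀ d ∈ l, d ∈ cDer) → orderK l seen = true → (∀ v : Fin 40, (v : ℕ) ∈ seen → c v ∈ K) →
    (∀ a ∈ seen, a < 40) → ∀ v : Fin 40, ((v : ℕ) ∈ seen ∨ ∃ d ∈ l, d.1 = (v : ℕ)) → c v ∈ K
  | [], seen, _, _, hs, _ => fun v hv => by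
    rcases hv with hv | ⟨d, hd, -⟩
    · exact hs v hv
    · exact absurd hd List.not_mem_nil
  | d :: r, seen, hl, ho, hs, hlt => by
    simp only [orderK, Bool.and_eq_true, List.contains_iff_mem] at ho
    obtain ⟨⟨⟨ha, hb⟩, hq⟩, hr⟩ := ho
    have hq' : d.1 < 40 := Nat.le_of_ble_eq_true hq
    let a : Fin 40 := ⟨d.2.1, hlt _ ha⟩
    let b : Fin 40 := ⟨d.2.2, hlt _ hb⟩
    have e : c ⟨d.1, hq'⟩ = c a * c b * (c a)⁻¹ := by
      refine eq_mul_inv_of_mul_eq (Equiv.ext fun i => Fin.ext ?_)
      have h := List.all_eq_true.1 (List.all_eq_true.1 der_ok d (hl d List.mem_cons_self)) i.1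
        (List.mem_range.2 i.2)
      have h' := Nat.eq_of_beq_eq_true h
      rw [Equiv.Perm.mul_apply, Equiv.Perm.mul_apply, c_val hc, c_val hc, c_val hc, c_val hc]
      exact h'
    have hnew : ∀ v : Fin 40, (v : ℕ) ∈ d.1 :: seen → c v ∈ K := by
      intro v hv
      rcases List.mem_cons.1 hv with hv | hv
      · rw [show v = ⟨d.1, hq'⟩ from Fin.ext hv, e]
        exact mul_mem (mul_mem (hs a ha) (hs b hb)) (inv_mem (hs a ha))
      · exact hs v hv
    intro v hv
    refine derived K r _ (fun x hx => hl x (List.mem_cons_of_mem _ hx)) hr hnew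
      (fun x hx => by rcases List.mem_cons.1 hx with rfl | hx; exacts [hq', hlt x hx]) v ?_
    rcases hv with hv | ⟨x, hx, hxv⟩
    · exact Or.inl (List.mem_cons_of_mem _ hv)
    · rcases List.mem_cons.1 hx with rfl | hx
      · exact Or.inl (hxv ▸ List.mem_cons_self)
      · exact Or.inr ⟨x, hx, hxv⟩

theorem all_mem {K : Subgroup (Equiv.Perm (Fin 40))} (h : ∀ v : Fin 40, (v : ℕ) ∈ wIx → c v ∈ K)
    (v : Fin 40) : c v ∈ K :=
  derived hc K cDer wIx (fun _ h => h) order_ok h
    (fun a ha => Nat.le_of_ble_eq_true (List.all_eq_true.1 wIx_spec a ha)) v (cover v)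

theorem equivariant {g : Equiv.Perm (Fin 40)} (hg : g ∈ closure (Set.range c)) :
    ∀ v, g * c v * g⁻¹ = c (g v) := by
  have hle : closure (Set.range c) ≤ closure (c '' {v | (v : ℕ) ∈ wIx}) := by
    rw [closure_le]
    rintro _ ⟨v, rfl⟩
    exact all_mem hc (fun w hw => subset_closure (Set.mem_image_of_mem c hw)) v
  have hg' := hle hg
  clear hg
  induction hg' using closure_induction with
  | mem g hg =>
    obtain ⟨a, ha, rfl⟩ := hg
    intro v
    refine mul_inv_eq_iff_eq_mul.2 (Equiv.ext fun i => Fin.ext ?_)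
    have hk := equiv_ok
    simp only [equivK, Bool.and_eq_true] at hk
    have h := Nat.eq_of_beq_eq_true (List.all_eq_true.1 (List.all_eq_true.1 (List.all_eq_true.1 hk.1 _ ha)
      v.1 (List.mem_range.2 v.2)) i.1 (List.mem_range.2 i.2))
    rw [Equiv.Perm.mul_apply, Equiv.Perm.mul_apply, c_val hc, c_val hc, c_val hc, c_val hc, c_val hc]
    exact h.symm
  | one => intro v; simp
  | mul g h _ _ ig ih =>
    intro v
    rw [Equiv.Perm.mul_apply, ← ig, ← ih]
    group
  | inv g _ ig =>
    intro v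
    have := ig (g⁻¹ v)
    rw [← Equiv.Perm.mul_apply, mul_inv_cancel, Equiv.Perm.one_apply] at this
    rw [← this]
    group

theorem cOut_not_mem : cOut ∉ closure (Set.range c) := by
  intro h
  have hk := equiv_ok
  simp only [equivK, Bool.and_eq_true, List.any_eq_true, List.mem_range] at hk
  obtain ⟨i, hi, hne⟩ := hk.2
  have hb : outBad < 40 := by decide
  have e := DFunLike.congr_fun (mul_inv_eq_iff_eq_mul.1 (equivariant hc h ⟨outBad, hb⟩)) (⟨i, hi⟩ : Fin 40)
  have e' := congrArg Fin.val e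
  simp only [Equiv.Perm.mul_apply, c_val hc, cOut_spec] at e'
  rw [Nat.beq_eq.mpr e'.symm] at hne
  exact Bool.noConfusion hne

end Abstract

theorem fix_sep : ∀ v i : Fin 40, (∀ w, perms v w = w → perms w i = i) → i = v := by decide +kernel

theorem centralizer_trivial {c : Fin 40 → Equiv.Perm (Fin 40)} (hc : ∀ v i, c v i = perms v i)
    {z : Equiv.Perm (Fin 40)} (hz : ∀ v, z * c v = c v * z) : z = 1 := by
  refine Equiv.ext fun v => fix_sep v (z v) fun w hw => ?_
  have hwv : c w v = v := by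
    rw [hc]
    exact (show ∀ v w, perms v w = w → perms w v = v by decide +kernel) v w hw
  have := DFunLike.congr_fun (hz w) v
  rw [Equiv.Perm.mul_apply, Equiv.Perm.mul_apply, hwv] at this
  rw [← hc]
  exact this.symm

end CfsgLib.Sporadic.FiTransfer.TwoCentral
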