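import Cfsg.Agent.Lib.Sporadic.FiTransfer.TwoCentral.Data
import Cfsg.Agent.Lib.Sporadic.Fi22Out.Checks
import Cfsg.Agent.Lib.Sporadic.Fi22Out.Defs

/-!
Kernel checks for the centraliser of a product of two commuting transpositions.
-/

set_option autoImplicit false
set_option maxRecDepth 100000
set_option Elab.async false

namespace CfsgLib.Sporadic.FiTransfer.TwoCentral

open CosetCert CosetCert.FiP.OutFi22
open CosetCert.FiData (table)

/-- The image of a point under a flagged word. -/
noncomputable def app (e : Bool × List ℕ) (p : ℕ) : ℕ :=
  bif e.1 then symAt (table.imgW e.2 p) else table.imgW e.2 p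

/-- The image of a point under a product. -/
noncomputable def appS (es : List (Bool × List ℕ)) (p : ℕ) : ℕ := es.foldr app p

/-- Two products agree on the points of the generators. -/
noncomputable def sameS (A B : List (Bool × List ℕ)) : Bool :=
  genPts.all fun p => Nat.beq (appS A p) (appS B p)

/-- The involution. -/
def tE : Bool × List ℕ := (false, [0, 2])

/-- All elements used. -/
def allE : List (Bool × List ℕ) := xsE ++ ysE ++ wsE ++ [outE]

/-- The letters are in range. -/
def lettersK : Bool := allE.all fun e => e.2.all fun x => Nat.blt x 9

/-- The elements commute with the involution. -/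
noncomputable def centK : Bool := allE.all fun e => sameS [e, tE] [tE, e]

/-- The squares. -/
noncomputable def sqK : Bool :=
  (xsE.all fun e => sameS [e, e] []) &&
    (ysE.zip syB).all fun e => sameS [e.1, e.1] (bif e.2 then [tE] else [])

/-- The elements of each half commute. -/
noncomputable def halfCommK : Bool :=
  (xsE.all fun a => xsE.all fun b => sameS [a, b] [b, a]) &&
    ysE.all fun a => ysE.all fun b => sameS [a, b] [b, a]

/-- The pairing. -/
noncomputable def pairK : Bool :=
  (List.range 5).all fun i => (List.range 5).all fun k =>
    let a := ysE.getD i (false, [])
    let b := xsE.getD k (false, [])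
    sameS [a, b] (bif Nat.beq i k then [b, a, tE] else [b, a])

/-- The listed points as a set. -/
noncomputable def maskOf (l : List ℕ) : ℕ := l.foldr (fun p acc => Nat.lor (Nat.shiftLeft 1 p) acc) 0

/-- An element maps each of the forty sets into the set given by the row. -/
noncomputable def moveK (e : Bool × List ℕ) (row : List ℕ) : Bool :=
  (List.range 40).all fun i =>
    let m := maskOf (objPts.getD (row.getD i 40) [])
    (objPts.getD i []).all fun p => Nat.testBit m (app e p)

/-- The elements act on the sets as listed. -/
noncomputable def actK : Bool :=
  ((xsE ++ ysE).all fun e => moveK e (List.range 40)) &&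
    ((List.range 4).all fun i => moveK (wsE.getD i (false, [])) (cRows.getD (wIx.getD i 40) [])) &&
      moveK outE outRow

/-- The derivation of the forty generators. -/
noncomputable def derK : Bool :=
  cDer.all fun d => (List.range 40).all fun i =>
    let a := cRows.getD d.2.1 []
    let b := cRows.getD d.2.2 []
    Nat.beq ((cRows.getD d.1 []).getD (a.getD i 40) 40) (a.getD (b.getD i 40) 40)

/-- The generators permute themselves under conjugation, the outer element does not. -/
noncomputable def equivK : Bool :=
  (wIx.all fun a => (List.range 40).all fun v => (List.range 40).all fun i =>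
    let r := cRows.getD a []
    Nat.beq ((cRows.getD (r.getD v 40) []).getD (r.getD i 40) 40) (r.getD ((cRows.getD v []).getD i 40) 40)) &&
  (List.range 40).any fun i =>
    !(Nat.beq ((cRows.getD (outRow.getD outBad 40) []).getD (outRow.getD i 40) 40)
      (outRow.getD ((cRows.getD outBad []).getD i 40) 40))

/-- The search on the points. -/
noncomputable def pSearchK : List (ℕ × ℕ × ℕ) → List ℕ → Bool
  | [], seen => pPts.all fun p => seen.contains p
  | s :: r, seen => Nat.blt s.2.1 seen.length && Nat.blt s.2.2 pGen.length &&
      Nat.beq (table.imgW (pGen.getD s.2.2 []) (seen.getD s.2.1 3510)) s.1 && pSearchK r (seen ++ [s.1])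

/-- The fixed points of the involution. -/
noncomputable def fixScanK : Bool :=
  (List.range 3510).all fun v =>
    !(Nat.beq (app tE v) v) || Nat.beq v 0 || Nat.beq v 6 || pPts.contains v

/-- The product of the involution and a transposition is no transposition. -/
noncomputable def notTrK : Bool :=
  halfK (pPts.getD 0 3510) pHalf &&
    !(Nat.beq (fixN fun v => table.imgW ([0, 2] ++ fullWord pHalf) v) 694)

theorem letters_ok : lettersK = true := by decide +kernel

theorem cent_ok : centK = true := by decide +kernel

theorem sq_ok : sqK = true := by decide +kernel

theorem halfComm_ok : halfCommK = true := by decide +kernel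

theorem pair_ok : pairK = true := by decide +kernel

theorem act_ok : actK = true := by decide +kernel

theorem der_ok : derK = true := by decide +kernel

theorem equiv_ok : equivK = true := by decide +kernel

theorem pSearch_ok : pSearchK pSteps [pPts.getD 0 3510] = true := by decide +kernel

theorem fixScan_ok : fixScanK = true := by decide +kernel

theorem notTr_ok : notTrK = true := by decide +kernel

end CfsgLib.Sporadic.FiTransfer.TwoCentral
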