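import Cfsg.Agent.Lib.Sporadic.ExtraspecialCrit
import Cfsg.Prelude.Def_MonsterType

/-!
Extraspecial 2-groups of width five from a symplectic basis, and groups of odd order they normalise.
-/

set_option autoImplicit false

open Subgroup
open scoped commutatorElement

namespace CfsgLib.Sporadic.FiTransfer.TwoCentral

variable {A : Type*} [Group A]

/-- Ten elements pairing to a central involution like a symplectic basis. -/
structure Basis (j : A) (x y : Fin 5 → A) : Prop where
  sq : j * j = 1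
  ne : j ≠ 1
  cx : ∀ i, x i * j = j * x i
  cy : ∀ i, y i * j = j * y i
  sqx : ∀ i, x i * x i = 1
  sqy : ∀ i, y i * y i = 1 ∨ y i * y i = j
  xx : ∀ i k, x i * x k = x k * x i
  yy : ∀ i k, y i * y k = y k * y i
  yx : ∀ i k, y i * x k = x k * y i * (if i = k then j else 1)

/-- The group generated by a basis. -/
def span (j : A) (x y : Fin 5 → A) : Subgroup A :=
  closure ({j} ∪ Set.range x ∪ Set.range y)

variable {j : A} {x y : Fin 5 → A}

theorem mem_j : j ∈ span j x y := subset_closure (Or.inl (Or.inl rfl))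

theorem mem_x (i : Fin 5) : x i ∈ span j x y := subset_closure (Or.inl (Or.inr ⟨i, rfl⟩))

theorem mem_y (i : Fin 5) : y i ∈ span j x y := subset_closure (Or.inr ⟨i, rfl⟩)

namespace Basis

variable (h : Basis j x y)

include h

theorem j_central {q : A} (hq : q ∈ span j x y) : q * j = j * q := by
  induction hq using closure_induction with
  | mem q hq =>
    rcases hq with (rfl | ⟨i, rfl⟩) | ⟨i, rfl⟩
    exacts [rfl, h.cx i, h.cy i]
  | one => rw [one_mul, mul_one]
  | mul a b _ _ ha hb => rw [mul_assoc, hb, ← mul_assoc, ha, mul_assoc]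
  | inv a _ ha => exact (Commute.inv_left (show Commute a j from ha)).eq

theorem zpowers_cases {c : A} : c ∈ zpowers j ↔ c = 1 ∨ c = j := by
  constructor
  · rintro ⟨n, rfl⟩
    rcases Int.even_or_odd' n with ⟨m, rfl | rfl⟩
    · left
      show j ^ (2 * m) = 1
      rw [zpow_mul, show j ^ (2 : ℤ) = 1 by rw [zpow_two, h.sq], one_zpow]
    · right
      show j ^ (2 * m + 1) = j
      rw [zpow_add, zpow_mul, show j ^ (2 : ℤ) = 1 by rw [zpow_two, h.sq], one_zpow, one_mul, zpow_one]
  · rintro (rfl | rfl)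
    exacts [one_mem _, mem_zpowers _]

/-- The centre subgroup inside the span. -/
theorem Z_central {c : span j x y} (hc : (c : A) ∈ zpowers j) : c ∈ center (span j x y) := by
  refine mem_center_iff.2 fun q => Subtype.ext ?_
  rcases h.zpowers_cases.1 hc with e | e <;> rw [coe_mul, coe_mul, e]
  · rw [one_mul, mul_one]
  · exact h.j_central q.2

omit h in
/-- The central subgroup of order two. -/
def Z (j : A) (x y : Fin 5 → A) : Subgroup (span j x y) := (zpowers j).subgroupOf _

theorem Z_normal : (Z j x y).Normal := ⟨fun c hc g => by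
  rwa [mem_center_iff.1 (h.Z_central (mem_subgroupOf.1 hc)) g, mul_inv_cancel_right]⟩

theorem comm_gen {a b : A} (ha : a ∈ ({j} ∪ Set.range x ∪ Set.range y : Set A))
    (hb : b ∈ ({j} ∪ Set.range x ∪ Set.range y : Set A)) : b⁻¹ * a⁻¹ * b * a ∈ zpowers j := by
  have hcj : ∀ c : A, c * j = j * c → (c⁻¹ * j⁻¹ * c * j ∈ zpowers j ∧ j⁻¹ * c⁻¹ * j * c ∈ zpowers j) := by
    intro c hc
    constructor
    · rw [mul_assoc _ c, hc]; group; exact one_mem _
    · rw [mul_assoc _ j, ← hc]; group; exact one_mem _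
  have hcc : ∀ c d : A, c * d = d * c → d⁻¹ * c⁻¹ * d * c ∈ zpowers j := by
    intro c d hc
    rw [mul_assoc _ d, ← hc]; group; exact one_mem _
  have hyx : ∀ i k, (x k)⁻¹ * (y i)⁻¹ * x k * y i ∈ zpowers j ∧ (y i)⁻¹ * (x k)⁻¹ * y i * x k ∈ zpowers j := by
    intro i k
    have e := h.yx i k
    by_cases hik : i = k
    · rw [if_pos hik] at e
      constructor
      · have : x k * y i = y i * x k * j⁻¹ := by rw [e]; group
        rw [mul_assoc _ (x k), this]; group; exact zpow_mem (mem_zpowers j) _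
      · rw [mul_assoc _ (y i), e]; group; exact mem_zpowers j
    · rw [if_neg hik, mul_one] at e
      exact ⟨hcc _ _ e, hcc _ _ e.symm⟩
  rcases ha with (rfl | ⟨i, rfl⟩) | ⟨i, rfl⟩ <;> rcases hb with (rfl | ⟨k, rfl⟩) | ⟨k, rfl⟩
  · group; exact one_mem _
  · exact (hcj _ (h.cx k)).1
  · exact (hcj _ (h.cy k)).1
  · exact (hcj _ (h.cx i)).2
  · exact hcc _ _ (h.xx i k)
  · exact (hyx k i).2
  · exact (hcj _ (h.cy i)).2
  · exact (hyx i k).1
  · exact hcc _ _ (h.yy i k)

theorem quot_comm : letI := h.Z_normal; ∀ a b : span j x y ⧸ Z j x y, a * b = b * a := by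
  letI := h.Z_normal
  let q : span j x y →* span j x y ⧸ Z j x y := QuotientGroup.mk' _
  have hg : ∀ a b : span j x y, (a : A) ∈ ({j} ∪ Set.range x ∪ Set.range y : Set A) →
      (b : A) ∈ ({j} ∪ Set.range x ∪ Set.range y : Set A) → Commute (q a) (q b) := by
    intro a b ha hb
    show q a * q b = q b * q a
    rw [← map_mul, ← map_mul]
    refine (QuotientGroup.eq).2 (mem_subgroupOf.2 ?_)
    simp only [coe_mul, coe_inv, mul_inv_rev, ← mul_assoc]
    exact h.comm_gen ha hb
  have hall : ∀ a b : span j x y, Commute (q a) (q b) := by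
    intro a b
    obtain ⟨a, ha⟩ := a
    obtain ⟨b, hb⟩ := b
    induction ha using closure_induction with
    | mem a ha =>
      induction hb using closure_induction with
      | mem b hb => exact hg ⟨a, _⟩ ⟨b, _⟩ ha hb
      | one => exact (map_one q).symm ▸ Commute.one_right _
      | mul c d hc hd i1 i2 =>
        rw [show (⟨c * d, _⟩ : span j x y) = ⟨c, hc⟩ * ⟨d, hd⟩ from rfl, map_mul]
        exact i1.mul_right i2
      | inv c hc i1 =>
        rw [show (⟨c⁻¹, _⟩ : span j x y) = ⟨c, hc⟩⁻¹ from rfl, map_inv]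
        exact i1.inv_right
    | one => exact (map_one q).symm ▸ Commute.one_left _
    | mul c d hc hd i1 i2 =>
      rw [show (⟨c * d, _⟩ : span j x y) = ⟨c, hc⟩ * ⟨d, hd⟩ from rfl, map_mul]
      exact i1.mul_left i2
    | inv c hc i1 =>
      rw [show (⟨c⁻¹, _⟩ : span j x y) = ⟨c, hc⟩⁻¹ from rfl, map_inv]
      exact i1.inv_left
  intro a b
  induction a using QuotientGroup.induction_on with
  | _ a =>
  induction b using QuotientGroup.induction_on with
  | _ b => exact (hall a b).eq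

theorem quot_sq : letI := h.Z_normal; ∀ a : span j x y ⧸ Z j x y, a ^ 2 = 1 := by
  letI := h.Z_normal
  intro a
  induction a using QuotientGroup.induction_on with
  | _ a =>
  let q : span j x y →* span j x y ⧸ Z j x y := QuotientGroup.mk' _
  show q a ^ 2 = 1
  obtain ⟨a, ha⟩ := a
  induction ha using closure_induction with
  | mem a ha =>
    rw [← map_pow]
    refine (QuotientGroup.eq_one_iff _).2 (mem_subgroupOf.2 ?_)
    rw [SubmonoidClass.coe_pow, pow_two, h.zpowers_cases]
    rcases ha with (rfl | ⟨i, rfl⟩) | ⟨i, rfl⟩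
    exacts [Or.inl h.sq, Or.inl (h.sqx i), h.sqy i]
  | one => exact (congrArg (· ^ 2) (map_one q)).trans (one_pow 2)
  | mul c d hc hd i1 i2 =>
    rw [show (⟨c * d, _⟩ : span j x y) = ⟨c, hc⟩ * ⟨d, hd⟩ from rfl, map_mul,
      (show Commute _ _ from h.quot_comm _ _).mul_pow, i1, i2, one_mul]
  | inv c hc i1 =>
    rw [show (⟨c⁻¹, _⟩ : span j x y) = ⟨c, hc⟩⁻¹ from rfl, map_inv, inv_pow, i1, inv_one]

theorem cases_of_mk (c : span j x y) : letI := h.Z_normal;
    (c : span j x y ⧸ Z j x y) = 1 → (c : A) = 1 ∨ (c : A) = j := by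
  letI := h.Z_normal
  intro e
  have h1 : c ∈ Z j x y := (QuotientGroup.eq_one_iff c).1 e
  exact h.zpowers_cases.1 (mem_subgroupOf.1 h1)

theorem comm_mem {a b : A} (ha : a ∈ span j x y) (hb : b ∈ span j x y) :
    a * b * a⁻¹ * b⁻¹ = 1 ∨ a * b * a⁻¹ * b⁻¹ = j := by
  letI := h.Z_normal
  refine h.cases_of_mk (⟨a, ha⟩ * ⟨b, hb⟩ * ⟨a, ha⟩⁻¹ * ⟨b, hb⟩⁻¹ : span j x y) ?_
  simp only [QuotientGroup.mk_mul, QuotientGroup.mk_inv]
  rw [h.quot_comm (⟨a, ha⟩ : span j x y), mul_inv_cancel_right, mul_inv_cancel]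

theorem sq_mem {a : A} (ha : a ∈ span j x y) : a * a = 1 ∨ a * a = j := by
  letI := h.Z_normal
  refine h.cases_of_mk (⟨a, ha⟩ * ⟨a, ha⟩ : span j x y) ?_
  rw [QuotientGroup.mk_mul, ← pow_two]
  exact h.quot_sq _

/-- The pairing with the generators. -/
theorem exists_coord [Finite A] : Nat.card (span j x y) = 2 ^ 11 ∧
    ∀ a ∈ span j x y, (∀ i, a * x i = x i * a) → (∀ i, a * y i = y i * a) → a = 1 ∨ a = j := by
  classical
  letI := h.Z_normal
  letI : CommGroup (span j x y ⧸ Z j x y) :=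
    { (inferInstance : Group (span j x y ⧸ Z j x y)) with mul_comm := h.quot_comm }
  let g : Fin 5 ⊕ Fin 5 → span j x y := Sum.elim (fun i => ⟨x i, mem_x i⟩) (fun i => ⟨y i, mem_y i⟩)
  let f : (Fin 5 ⊕ Fin 5 → ZMod 2) → span j x y ⧸ Z j x y :=
    fun v => ∏ i, (g i : span j x y ⧸ Z j x y) ^ (v i).val
  have hf : ∀ v w, f (v + w) = f v * f w := by
    intro v w
    rw [← Finset.prod_mul_distrib]
    refine Finset.prod_congr rfl fun i _ => ?_
    rw [← pow_add, Pi.add_apply, ZMod.val_add]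
    conv_rhs => rw [← Nat.mod_add_div ((v i).val + (w i).val) 2, pow_add, pow_mul, h.quot_sq, one_pow, mul_one]
  have hf0 : f 0 = 1 := Finset.prod_eq_one fun i _ => by simp
  have hsurj : Function.Surjective f := by
    intro a
    induction a using QuotientGroup.induction_on with
    | _ a =>
    obtain ⟨a, ha⟩ := a
    induction ha using closure_induction with
    | mem a ha =>
      rcases ha with (rfl | ⟨i, rfl⟩) | ⟨i, rfl⟩
      · refine ⟨0, hf0.trans (Eq.symm ?_)⟩
        exact (QuotientGroup.eq_one_iff _).2 (mem_subgroupOf.2 (mem_zpowers _))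
      · refine ⟨Pi.single (Sum.inl i) 1, ?_⟩
        simp only [f]
        rw [Finset.prod_eq_single (Sum.inl i) (fun b _ hb => by simp [Pi.single_eq_of_ne hb])
          (fun hb => absurd (Finset.mem_univ _) hb)]
        rw [Pi.single_eq_same, ZMod.val_one, pow_one]
        rfl
      · refine ⟨Pi.single (Sum.inr i) 1, ?_⟩
        simp only [f]
        rw [Finset.prod_eq_single (Sum.inr i) (fun b _ hb => by simp [Pi.single_eq_of_ne hb])
          (fun hb => absurd (Finset.mem_univ _) hb)]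
        rw [Pi.single_eq_same, ZMod.val_one, pow_one]
        rfl
    | one => exact ⟨0, hf0⟩
    | mul c d hc hd i1 i2 =>
      obtain ⟨v, hv⟩ := i1
      obtain ⟨w, hw⟩ := i2
      exact ⟨v + w, by rw [hf, hv, hw]; rfl⟩
    | inv c hc i1 =>
      obtain ⟨v, hv⟩ := i1
      refine ⟨v, ?_⟩
      rw [show (⟨c⁻¹, _⟩ : span j x y) = ⟨c, hc⟩⁻¹ from rfl, QuotientGroup.mk_inv, ← hv]
      exact (inv_eq_of_mul_eq_one_right (by rw [← pow_two]; exact h.quot_sq _)).symm
  -- the pairing is the inverse of f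
  have key : ∀ v : Fin 5 ⊕ Fin 5 → ZMod 2, f v = 1 → v = 0 := by
    intro v hv
    have hv' : ∀ s, ∀ b : span j x y, (∀ i, i ≠ s → Commute (g i) b) → (g s * b = b * g s * ⟨j, mem_j⟩) →
        v s = 0 := by
      intro s b hb hs
      by_contra hne
      have h1 : v s = 1 := by
        have : ∀ t : ZMod 2, t ≠ 0 → t = 1 := by decide
        exact this _ hne
      let P : span j x y := ((Finset.univ.toList).map fun i => g i ^ (v i).val).prod
      have hP : P ∈ Z j x y := by
        rw [← QuotientGroup.eq_one_iff, ← hv]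
        show (QuotientGroup.mk' (Z j x y)) P = _
        rw [map_list_prod, List.map_map]
        exact (Finset.prod_map_toList _ _).trans (Finset.prod_congr rfl fun i _ => map_pow _ _ _)
      have hc := mem_center_iff.1 (h.Z_central (mem_subgroupOf.1 hP)) b
      obtain ⟨l1, l2, hl⟩ := List.append_of_mem (Finset.mem_toList.2 (Finset.mem_univ s))
      have hnd := Finset.nodup_toList (Finset.univ : Finset (Fin 5 ⊕ Fin 5))
      rw [hl, List.nodup_append] at hnd
      have hc1 : ∀ l : List (Fin 5 ⊕ Fin 5), s ∉ l → Commute b (l.map fun i => g i ^ (v i).val).prod :=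
        fun l hls => Commute.list_prod_right _ _ fun c hc => by
          obtain ⟨i, hi, rfl⟩ := List.mem_map.1 hc
          exact ((hb i fun e => hls (e ▸ hi)).symm).pow_right _
      have e1 := hc1 l1 (fun hs' => hnd.2.2 _ hs' _ List.mem_cons_self rfl)
      have e2 := hc1 l2 (List.nodup_cons.1 hnd.2.1).1
      simp only [P, hl, List.map_append, List.map_cons, List.prod_append, List.prod_cons, h1,
        ZMod.val_one, pow_one] at hc
      set p1 := (l1.map fun i => g i ^ (v i).val).prod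
      set p2 := (l2.map fun i => g i ^ (v i).val).prod
      have hJ : (⟨j, mem_j⟩ : span j x y) ∈ center (span j x y) := h.Z_central (mem_zpowers _)
      have h3 : p1 * (g s * p2) * b = p1 * (g s * b) * p2 := by
        simp only [mul_assoc]; rw [e2.eq]
      have h4 : b * (p1 * (g s * p2)) = p1 * (b * g s) * p2 := by
        simp only [← mul_assoc]; rw [e1.eq]
      have h5 : g s * b = b * g s := mul_left_cancel (mul_right_cancel (h3.symm.trans (hc.symm.trans h4)))
      rw [hs] at h5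
      exact h.ne (congrArg Subtype.val (mul_eq_left.1 h5))
    funext s
    rcases s with i | i
    · refine hv' (Sum.inl i) ⟨y i, mem_y i⟩ ?_ ?_
      · rintro (k | k) hk
        · refine Subtype.ext ?_
          show x k * y i = y i * x k
          rw [h.yx i k, if_neg (fun e => hk (by rw [e])), mul_one]
        · exact Subtype.ext (h.yy k i)
      · refine Subtype.ext ?_
        show x i * y i = y i * x i * j
        rw [h.yx i i, if_pos rfl, mul_assoc, h.sq, mul_one]
    · refine hv' (Sum.inr i) ⟨x i, mem_x i⟩ ?_ ?_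
      · rintro (k | k) hk
        · exact Subtype.ext (h.xx k i)
        · refine Subtype.ext ?_
          show y k * x i = x i * y k
          rw [h.yx k i, if_neg (fun e => hk (by rw [e])), mul_one]
      · refine Subtype.ext ?_
        show y i * x i = x i * y i * j
        rw [h.yx i i, if_pos rfl]
  have hbij : Function.Bijective f := by
    refine ⟨fun v w e => ?_, hsurj⟩
    have := key (v + w) (by rw [hf, e, ← pow_two, h.quot_sq])
    funext i
    have hi := congrFun this i
    simp only [Pi.add_apply, Pi.zero_apply] at hi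
    exact (by decide : ∀ a b : ZMod 2, a + b = 0 → a = b) _ _ hi
  have hcard : Nat.card (span j x y) = 2 ^ 11 := by
    rw [← (Z j x y).card_mul_index, show (Z j x y).index = Nat.card (span j x y ⧸ Z j x y) from rfl,
      ← Nat.card_eq_of_bijective f hbij, Nat.card_fun, Nat.card_zmod, Nat.card_eq_fintype_card (α := Fin 5 ⊕ Fin 5),
      Z, Nat.card_congr (subgroupOfEquivOfLe (zpowers_le.2 mem_j)).toEquiv, Nat.card_zpowers,
      orderOf_eq_prime (p := 2) (by rw [pow_two, h.sq]) h.ne]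
    norm_num
  refine ⟨hcard, fun a ha hax hay => ?_⟩
  obtain ⟨v, hv⟩ := hsurj (⟨a, ha⟩ : span j x y)
  by_cases hv0 : v = 0
  · rw [hv0, hf0] at hv
    exact h.cases_of_mk ⟨a, ha⟩ hv.symm
  exfalso
  obtain ⟨s, hs⟩ := Function.ne_iff.1 hv0
  have h1 : v s = 1 := (by decide : ∀ t : ZMod 2, t ≠ 0 → t = 1) _ hs
  -- a and the product differ by a central element
  let P : span j x y := ((Finset.univ.toList).map fun i => g i ^ (v i).val).prod
  have hP : (QuotientGroup.mk' (Z j x y)) P = f v := by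
    rw [map_list_prod, List.map_map]
    exact (Finset.prod_map_toList _ _).trans (Finset.prod_congr rfl fun i _ => map_pow _ _ _)
  have hd : (⟨a, ha⟩ : span j x y)⁻¹ * P ∈ center (span j x y) :=
    h.Z_central (mem_subgroupOf.1 (QuotientGroup.eq.1 ((hP.trans hv).symm)))
  have hPc : ∀ b : span j x y, (a : A) * b = b * a → Commute P b := by
    intro b hb
    have e1 : Commute (⟨a, ha⟩ : span j x y) b := Subtype.ext hb
    have e2 : Commute ((⟨a, ha⟩ : span j x y)⁻¹ * P) b := (mem_center_iff.1 hd b).symm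
    simpa using e1.mul_left e2
  obtain ⟨l1, l2, hl⟩ := List.append_of_mem (Finset.mem_toList.2 (Finset.mem_univ s))
  have hnd := Finset.nodup_toList (Finset.univ : Finset (Fin 5 ⊕ Fin 5))
  rw [hl, List.nodup_append] at hnd
  have main : ∀ b : span j x y, (∀ i, i ≠ s → Commute (g i) b) → g s * b = b * g s * ⟨j, mem_j⟩ →
      Commute P b → False := by
    intro b hb hsb hPb
    have hc1 : ∀ l : List (Fin 5 ⊕ Fin 5), s ∉ l → Commute b (l.map fun i => g i ^ (v i).val).prod :=
      fun l hls => Commute.list_prod_right _ _ fun c hc => by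
        obtain ⟨i, hi, rfl⟩ := List.mem_map.1 hc
        exact ((hb i fun e => hls (e ▸ hi)).symm).pow_right _
    have e1 := hc1 l1 (fun hs' => hnd.2.2 _ hs' _ List.mem_cons_self rfl)
    have e2 := hc1 l2 (List.nodup_cons.1 hnd.2.1).1
    have hc : b * P = P * b := hPb.eq.symm
    simp only [P, hl, List.map_append, List.map_cons, List.prod_append, List.prod_cons, h1,
      ZMod.val_one, pow_one] at hc
    set p1 := (l1.map fun i => g i ^ (v i).val).prod
    set p2 := (l2.map fun i => g i ^ (v i).val).prod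
    have h3 : p1 * (g s * p2) * b = p1 * (g s * b) * p2 := by
      simp only [mul_assoc]; rw [e2.eq]
    have h4 : b * (p1 * (g s * p2)) = p1 * (b * g s) * p2 := by
      simp only [← mul_assoc]; rw [e1.eq]
    have h5 : g s * b = b * g s := mul_left_cancel (mul_right_cancel (h3.symm.trans (hc.symm.trans h4)))
    rw [hsb] at h5
    exact h.ne (congrArg Subtype.val (mul_eq_left.1 h5))
  rcases s with i | i
  · refine main ⟨y i, mem_y i⟩ ?_ ?_ (hPc _ (hay i))
    · rintro (k | k) hk
      · refine Subtype.ext ?_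
        show x k * y i = y i * x k
        rw [h.yx i k, if_neg (fun e => hk (by rw [e])), mul_one]
      · exact Subtype.ext (h.yy k i)
    · refine Subtype.ext ?_
      show x i * y i = y i * x i * j
      rw [h.yx i i, if_pos rfl, mul_assoc, h.sq, mul_one]
  · refine main ⟨x i, mem_x i⟩ ?_ ?_ (hPc _ (hax i))
    · rintro (k | k) hk
      · exact Subtype.ext (h.xx k i)
      · refine Subtype.ext ?_
        show y k * x i = x i * y k
        rw [h.yx k i, if_neg (fun e => hk (by rw [e])), mul_one]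
    · refine Subtype.ext ?_
      show y i * x i = x i * y i * j
      rw [h.yx i i, if_pos rfl]

theorem isExtraspecial [Finite A] : Cfsg.IsExtraspecial 2 (span j x y) := by
  obtain ⟨hcard, hcen⟩ := h.exists_coord
  refine ExtraspecialCrit.isExtraspecial (IsPGroup.of_card hcard) ⟨j, mem_j⟩
    (fun e => h.ne (congrArg Subtype.val e)) (h.Z_central (mem_zpowers _))
    (fun a b => (h.comm_mem a.2 b.2).imp (fun e => Subtype.ext e) (fun e => Subtype.ext e))
    (fun a => (h.sq_mem a.2).imp (fun e => Subtype.ext e) (fun e => Subtype.ext e)) ?_ ?_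
  · intro a ha
    exact (hcen a a.2 (fun i => congrArg Subtype.val (mem_center_iff.1 ha ⟨x i, mem_x i⟩).symm)
      (fun i => congrArg Subtype.val (mem_center_iff.1 ha ⟨y i, mem_y i⟩).symm)).imp
      (fun e => Subtype.ext e) (fun e => Subtype.ext e)
  · refine ⟨⟨y 0, mem_y 0⟩, ⟨x 0, mem_x 0⟩, fun e => h.ne ?_⟩
    have e' : y 0 * x 0 = x 0 * y 0 := congrArg Subtype.val e
    rw [h.yx 0 0, if_pos rfl] at e'
    exact mul_eq_left.1 e'

/-- A group of odd order normalised by the span, in which `j` has no fixed points, is huge. -/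
theorem card_ge_of_fixedFree [Finite A] {K : Subgroup A} (hodd : Odd (Nat.card K))
    (hn : ∀ q ∈ span j x y, ∀ k ∈ K, q * k * q⁻¹ ∈ K) (hj : ∀ k ∈ K, j * k * j⁻¹ = k → k = 1)
    (hne : K ≠ ⊥) : 3 ^ 32 ≤ Nat.card K := by
  classical
  -- every element is inverted
  have hinv : ∀ k ∈ K, j * k * j⁻¹ = k⁻¹ := by
    intro k hk
    have hjj : j⁻¹ = j := inv_eq_of_mul_eq_one_right h.sq
    let f : K → K := fun k => ⟨k.1⁻¹ * (j * k.1 * j⁻¹), mul_mem (inv_mem k.2) (hn j mem_j _ k.2)⟩
    have hinj : Function.Injective f := by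
      intro a b e
      have e' : a.1⁻¹ * (j * a.1 * j⁻¹) = b.1⁻¹ * (j * b.1 * j⁻¹) := congrArg Subtype.val e
      have h1 : j * (b.1 * a.1⁻¹) * j⁻¹ = b.1 * a.1⁻¹ := by
        calc j * (b.1 * a.1⁻¹) * j⁻¹ = b.1 * (b.1⁻¹ * (j * b.1 * j⁻¹)) * (a.1⁻¹ * (j * a.1 * j⁻¹))⁻¹ * a.1⁻¹ := by group
          _ = b.1 * a.1⁻¹ := by rw [e']; group
      exact Subtype.ext (mul_inv_eq_one.1 (hj _ (mul_mem b.2 (inv_mem a.2)) h1)).symm
    obtain ⟨a, ha⟩ := Finite.injective_iff_surjective.1 hinj ⟨k, hk⟩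
    have ha' : a.1⁻¹ * (j * a.1 * j⁻¹) = k := congrArg Subtype.val ha
    rw [← ha', hjj]
    calc j * (a.1⁻¹ * (j * a.1 * j)) * j = (j * a.1⁻¹ * j) * (a.1 * (j * j)) := by group
      _ = (a.1⁻¹ * (j * a.1 * j))⁻¹ := by rw [h.sq, mul_one, mul_inv_rev, mul_inv_rev, mul_inv_rev, inv_inv, hjj]; group
  have hcomm : ∀ a ∈ K, ∀ b ∈ K, a * b = b * a := by
    intro a ha b hb
    have h1 := hinv _ (mul_mem ha hb)
    rw [show j * (a * b) * j⁻¹ = (j * a * j⁻¹) * (j * b * j⁻¹) by group, hinv a ha, hinv b hb] at h1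
    have := congrArg (·⁻¹) h1
    simpa [mul_inv_rev] using this.symm
  -- subgroups fixed by x_i, i < n
  let Fx : ℕ → Subgroup A := fun n =>
    { carrier := {k | k ∈ K ∧ ∀ i : Fin 5, (i : ℕ) < n → x i * k * (x i)⁻¹ = k}
      one_mem' := ⟨one_mem K, fun i _ => by group⟩
      mul_mem' := fun {a b} ha hb => ⟨mul_mem ha.1 hb.1, fun i hi => by
        rw [show x i * (a * b) * (x i)⁻¹ = (x i * a * (x i)⁻¹) * (x i * b * (x i)⁻¹) by group,
          ha.2 i hi, hb.2 i hi]⟩
      inv_mem' := fun {a} ha => ⟨inv_mem ha.1, fun i hi => by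
        rw [show x i * a⁻¹ * (x i)⁻¹ = (x i * a * (x i)⁻¹)⁻¹ by group, ha.2 i hi]⟩ }
  have hxj : ∀ (i : Fin 5) (k : A), x i * (j * k * j⁻¹) * (x i)⁻¹ = j * (x i * k * (x i)⁻¹) * j⁻¹ := by
    intro i k
    calc x i * (j * k * j⁻¹) * (x i)⁻¹ = (x i * j) * k * (x i * j)⁻¹ := by group
      _ = (j * x i) * k * (j * x i)⁻¹ := by rw [h.cx i]
      _ = j * (x i * k * (x i)⁻¹) * j⁻¹ := by group
  have step : ∀ n : ℕ, n < 5 → Nat.card (Fx n) = Nat.card (Fx (n + 1)) * Nat.card (Fx (n + 1)) := by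
    intro n hn5
    let m : Fin 5 := ⟨n, hn5⟩
    have hxm : ∀ k ∈ Fx n, x m * k * (x m)⁻¹ ∈ Fx n := fun k hk =>
      ⟨hn _ (mem_x m) _ hk.1, fun i hi => by
        calc x i * (x m * k * (x m)⁻¹) * (x i)⁻¹ = (x i * x m) * k * (x i * x m)⁻¹ := by group
          _ = (x m * x i) * k * (x m * x i)⁻¹ := by rw [h.xx i m]
          _ = x m * (x i * k * (x i)⁻¹) * (x m)⁻¹ := by group
          _ = _ := by rw [hk.2 i hi]⟩
    have hym : ∀ k ∈ Fx n, y m * k * (y m)⁻¹ ∈ Fx n := fun k hk =>
      ⟨hn _ (mem_y m) _ hk.1, fun i hi => by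
        have e : y m * x i = x i * y m := by
          rw [h.yx m i, if_neg (fun e => by rw [← e] at hi; exact absurd hi (lt_irrefl n)), mul_one]
        calc x i * (y m * k * (y m)⁻¹) * (x i)⁻¹ = (x i * y m) * k * (x i * y m)⁻¹ := by group
          _ = (y m * x i) * k * (y m * x i)⁻¹ := by rw [e]
          _ = y m * (x i * k * (x i)⁻¹) * (y m)⁻¹ := by group
          _ = _ := by rw [hk.2 i hi]⟩
    have hmem : ∀ {k}, k ∈ Fx (n + 1) ↔ k ∈ Fx n ∧ x m * k * (x m)⁻¹ = k := fun {k} =>
      ⟨fun hk => ⟨⟨hk.1, fun i hi => hk.2 i (by omega)⟩, hk.2 m (by simp [m])⟩,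
        fun ⟨hk, hkm⟩ => ⟨hk.1, fun i hi => by
          rcases Nat.lt_or_eq_of_le (Nat.le_of_lt_succ hi) with h' | h'
          · exact hk.2 i h'
          · rw [show i = m from Fin.ext h']; exact hkm⟩⟩
    let ψ : Fx (n + 1) × Fx (n + 1) → Fx n := fun p =>
      ⟨p.1.1 * (y m * p.2.1 * (y m)⁻¹), mul_mem (hmem.1 p.1.2).1 (hym _ (hmem.1 p.2.2).1)⟩
    have hy : ∀ k, k ∈ Fx n → x m * k * (x m)⁻¹ = k⁻¹ →
        x m * ((y m)⁻¹ * k * y m) * (x m)⁻¹ = (y m)⁻¹ * k * y m := by
      intro k hk he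
      have e : y m * x m = x m * y m * j := by rw [h.yx m m, if_pos rfl]
      have e2 : x m * (y m)⁻¹ = (y m)⁻¹ * (x m * j) := by
        calc x m * (y m)⁻¹ = (y m)⁻¹ * (y m * x m) * (y m)⁻¹ := by group
          _ = (y m)⁻¹ * (x m * y m * j) * (y m)⁻¹ := by rw [e]
          _ = (y m)⁻¹ * (x m * (y m * j)) * (y m)⁻¹ := by group
          _ = (y m)⁻¹ * (x m * j) := by rw [h.cy m]; group
      calc x m * ((y m)⁻¹ * k * y m) * (x m)⁻¹ = (x m * (y m)⁻¹) * k * (x m * (y m)⁻¹)⁻¹ := by group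
        _ = (y m)⁻¹ * (x m * (j * k * j⁻¹) * (x m)⁻¹) * y m := by rw [e2]; group
        _ = (y m)⁻¹ * k * y m := by
          rw [hinv k hk.1, show x m * k⁻¹ * (x m)⁻¹ = (x m * k * (x m)⁻¹)⁻¹ by group, he, inv_inv]
    have hy2 : ∀ k, k ∈ Fx (n + 1) → x m * (y m * k * (y m)⁻¹) * (x m)⁻¹ = (y m * k * (y m)⁻¹)⁻¹ := by
      intro k hk
      have e : x m * y m = y m * (x m * j) := by
        rw [← mul_assoc, h.yx m m, if_pos rfl, mul_assoc, h.sq, mul_one]
      calc x m * (y m * k * (y m)⁻¹) * (x m)⁻¹ = (x m * y m) * k * (x m * y m)⁻¹ := by group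
        _ = y m * (x m * (j * k * j⁻¹) * (x m)⁻¹) * (y m)⁻¹ := by rw [e]; group
        _ = (y m * k * (y m)⁻¹)⁻¹ := by
          rw [hinv k hk.1, show x m * k⁻¹ * (x m)⁻¹ = (x m * k * (x m)⁻¹)⁻¹ by group, (hmem.1 hk).2]
          group
    have hsq1 : ∀ k ∈ K, k * k = 1 → k = 1 := by
      intro k hk e
      have h1 : orderOf (⟨k, hk⟩ : K) ∣ 2 :=
        orderOf_dvd_of_pow_eq_one (Subtype.ext (by simpa [pow_two] using e))
      have h2 : orderOf (⟨k, hk⟩ : K) ∣ Nat.card K := orderOf_dvd_natCard _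
      have hne2 : orderOf (⟨k, hk⟩ : K) ≠ 2 := fun e2 => by
        rw [e2] at h2
        exact (Nat.not_even_iff_odd.2 hodd) (even_iff_two_dvd.2 h2)
      have := ((Nat.dvd_prime Nat.prime_two).1 h1).resolve_right hne2
      exact congrArg Subtype.val (orderOf_eq_one_iff.1 this)
    have hψ : Function.Bijective ψ := by
      constructor
      · rintro ⟨a, b⟩ ⟨a', b'⟩ e
        have e' : a.1 * (y m * b.1 * (y m)⁻¹) = a'.1 * (y m * b'.1 * (y m)⁻¹) := congrArg Subtype.val e
        have hd : a'.1⁻¹ * a.1 = y m * (b'.1 * b.1⁻¹) * (y m)⁻¹ := by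
          calc a'.1⁻¹ * a.1 = a'.1⁻¹ * (a.1 * (y m * b.1 * (y m)⁻¹)) * (y m * b.1 * (y m)⁻¹)⁻¹ := by group
            _ = y m * (b'.1 * b.1⁻¹) * (y m)⁻¹ := by rw [e']; group
        have hmemd : b'.1 * b.1⁻¹ ∈ Fx (n + 1) := mul_mem b'.2 (inv_mem b.2)
        have hdl : x m * (a'.1⁻¹ * a.1) * (x m)⁻¹ = a'.1⁻¹ * a.1 :=
          (hmem.1 (mul_mem (inv_mem a'.2) a.2)).2
        have hdr := hy2 _ hmemd
        rw [← hd, hdl] at hdr
        have h1 : a'.1⁻¹ * a.1 = 1 := hsq1 _ (mul_mem (inv_mem a'.2.1) a.2.1) (by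
          nth_rewrite 1 [hdr]; rw [inv_mul_cancel])
        have ha : a = a' := Subtype.ext (inv_mul_eq_one.1 h1).symm
        subst ha
        have hb : b = b' := Subtype.ext (by
          have := mul_left_cancel e'
          exact mul_left_cancel (mul_right_cancel this))
        rw [hb]
      · intro k
        -- square roots exist
        obtain ⟨r, hr⟩ : ∃ r : Fx n, r * r = k := by
          have hinjsq : Function.Injective fun r : Fx n => r * r := by
            intro r r' e
            have e' : r.1 * r.1 = r'.1 * r'.1 := congrArg Subtype.val e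
            refine Subtype.ext (inv_mul_eq_one.1 (hsq1 _ (mul_mem (inv_mem r'.2.1) r.2.1) ?_)).symm
            have hc := hcomm _ (inv_mem r'.2.1) _ r.2.1
            calc r'.1⁻¹ * r.1 * (r'.1⁻¹ * r.1) = r'.1⁻¹ * (r.1 * r'.1⁻¹) * r.1 := by group
              _ = r'.1⁻¹ * r'.1⁻¹ * (r.1 * r.1) := by rw [← hc]; group
              _ = 1 := by rw [e']; group
          exact Finite.injective_iff_surjective.1 hinjsq k
        set s := x m * r.1 * (x m)⁻¹ with hs
        have hsK : s ∈ Fx n := hxm _ r.2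
        have hxs : x m * s * (x m)⁻¹ = r.1 := by
          rw [hs]
          calc x m * (x m * r.1 * (x m)⁻¹) * (x m)⁻¹ = (x m * x m) * r.1 * (x m * x m)⁻¹ := by group
            _ = r.1 := by rw [h.sqx m]; group
        have hab : Commute r.1 s := hcomm _ r.2.1 _ hsK.1
        have ha : r.1 * s ∈ Fx (n + 1) := hmem.2 ⟨mul_mem r.2 hsK, by
          calc x m * (r.1 * s) * (x m)⁻¹ = (x m * r.1 * (x m)⁻¹) * (x m * s * (x m)⁻¹) := by group
            _ = s * r.1 := by rw [hxs, ← hs]
            _ = r.1 * s := hab.eq.symm⟩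
        have hbK : r.1 * s⁻¹ ∈ Fx n := mul_mem r.2 (inv_mem hsK)
        have hbi : x m * (r.1 * s⁻¹) * (x m)⁻¹ = (r.1 * s⁻¹)⁻¹ := by
          calc x m * (r.1 * s⁻¹) * (x m)⁻¹ = (x m * r.1 * (x m)⁻¹) * (x m * s * (x m)⁻¹)⁻¹ := by group
            _ = _ := by rw [hxs, ← hs, mul_inv_rev, inv_inv]
        have hyK : (y m)⁻¹ * (r.1 * s⁻¹) * y m ∈ Fx n := by
          refine ⟨?_, fun i hi => ?_⟩
          · have := hn _ (inv_mem (mem_y (j := j) (x := x) (y := y) m)) _ hbK.1
            rwa [inv_inv] at this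
          · have e : x i * (y m)⁻¹ = (y m)⁻¹ * x i := by
              have e0 : y m * x i = x i * y m := by
                rw [h.yx m i, if_neg (fun e => by rw [← e] at hi; exact absurd hi (lt_irrefl n)), mul_one]
              calc x i * (y m)⁻¹ = (y m)⁻¹ * (y m * x i) * (y m)⁻¹ := by group
                _ = (y m)⁻¹ * x i := by rw [e0]; group
            calc x i * ((y m)⁻¹ * (r.1 * s⁻¹) * y m) * (x i)⁻¹
                = (x i * (y m)⁻¹) * (r.1 * s⁻¹) * (x i * (y m)⁻¹)⁻¹ := by group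
              _ = (y m)⁻¹ * (x i * (r.1 * s⁻¹) * (x i)⁻¹) * y m := by rw [e]; group
              _ = _ := by rw [hbK.2 i hi]
        refine ⟨(⟨r.1 * s, ha⟩, ⟨(y m)⁻¹ * (r.1 * s⁻¹) * y m, hmem.2 ⟨hyK, hy _ hbK hbi⟩⟩), Subtype.ext ?_⟩
        show r.1 * s * (y m * ((y m)⁻¹ * (r.1 * s⁻¹) * y m) * (y m)⁻¹) = k.1
        rw [← hr]
        calc r.1 * s * (y m * ((y m)⁻¹ * (r.1 * s⁻¹) * y m) * (y m)⁻¹)
            = (r.1 * s) * r.1 * s⁻¹ := by group
          _ = r.1 * (s * r.1) * s⁻¹ := by group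
          _ = r.1 * r.1 := by rw [← hab.eq]; group
    rw [← Nat.card_eq_of_bijective ψ hψ, Nat.card_prod]
  have h0 : Nat.card (Fx 0) = Nat.card K := by
    have e : Fx 0 = K := Subgroup.ext fun k =>
      ⟨fun hk => hk.1, fun hk => ⟨hk, fun i hi => absurd hi (by omega)⟩⟩
    rw [e]
  set c := Nat.card (Fx 5) with hc
  have hK : Nat.card K = c ^ 32 := by
    rw [← h0, step 0 (by norm_num), step 1 (by norm_num), step 2 (by norm_num), step 3 (by norm_num),
      step 4 (by norm_num)]
    ring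
  have hc1 : c ≠ 1 := fun e => hne (Subgroup.eq_bot_of_card_eq K (by rw [hK, e, one_pow]))
  have hc2 : c ≠ 2 := fun e => (Nat.not_even_iff_odd.2 hodd) (by rw [hK, e]; exact ⟨2 ^ 31, by norm_num⟩)
  have hc0 : c ≠ 0 := Nat.card_pos.ne'
  rw [hK]
  exact Nat.pow_le_pow_left (by omega) 32

end Basis

end CfsgLib.Sporadic.FiTransfer.TwoCentral
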