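import Cfsg.Agent.Lib.Sporadic.FiTransfer.TwoCentral.Forty
import Cfsg.Agent.Lib.Sporadic.FiTransfer.TwoCentral.Symplectic

/-!
The elements of the centraliser and their action on the forty sets.
-/

set_option autoImplicit false
set_option maxRecDepth 100000

open Cfsg.Spor Subgroup

namespace CfsgLib.Sporadic.FiTransfer.TwoCentral

open CosetCert CosetCert.FiP CosetCert.FiP.OutFi22
open CosetCert.FiData (table)

attribute [local irreducible] PTab.img symAt

theorem ok_all {e : Bool × List ℕ} (h : e ∈ allE) : Ok e := fun x hx =>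
  Nat.le_of_ble_eq_true (List.all_eq_true.1 (List.all_eq_true.1 letters_ok e h) x hx)

theorem sameS_of_eq {A B : List (Bool × List ℕ)} (hA : ∀ e ∈ A, Ok e) (hB : ∀ e ∈ B, Ok e)
    (h : (A.map ev).prod = (B.map ev).prod) : sameS A B = true := by
  refine List.all_eq_true.2 fun p hp => Nat.beq_eq.mpr ?_
  obtain ⟨x, hx, rfl⟩ := List.mem_iff_getElem.1 hp
  have hlt : genPts.getD x 3510 < table.N := pts_lt x hx
  rw [List.getD_eq_getElem _ _ hx] at hlt
  rw [← pm_evS hA ⟨_, hlt⟩, ← pm_evS hB ⟨_, hlt⟩, h]

theorem forall_pair {a b : Bool × List ℕ} (ha : Ok a) (hb : Ok b) : ∀ e ∈ [a, b], Ok e := by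
  intro e he
  simp only [List.mem_cons, List.not_mem_nil, or_false] at he
  rcases he with rfl | rfl <;> assumption

theorem ev_mem_cent {e : Bool × List ℕ} (h : e ∈ allE) : ev e ∈ centralizer ({jT} : Set (MulAut Fi22)) := by
  have := eq_of_sameS (forall_pair (ok_all h) tE_ok) (forall_pair tE_ok (ok_all h))
    (List.all_eq_true.1 cent_ok e h)
  rw [mem_centralizer_singleton_iff]
  simpa [jT] using this

theorem jT_sq : jT * jT = 1 := by
  rw [jT_eq, ← map_mul, ← tF, tF_sq, map_one]

theorem jT_ne : jT ≠ 1 := by
  intro e
  have h := pm_ev tE_ok ⟨1, two_le⟩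
  rw [← jT, e, map_one, Equiv.Perm.one_apply] at h
  revert h
  show (1 : ℕ) = app tE 1 → False
  decide +kernel

theorem xsE_len : xsE.length = 5 := rfl

theorem ysE_len : ysE.length = 5 := rfl

theorem mem_allE_x (i : Fin 5) : xsE.getD i (false, []) ∈ allE := by
  rw [List.getD_eq_getElem _ _ (show i.1 < xsE.length from i.2)]
  exact List.mem_append_left _ (List.mem_append_left _ (List.mem_append_left _ (List.getElem_mem _)))

theorem mem_allE_y (i : Fin 5) : ysE.getD i (false, []) ∈ allE := by
  rw [List.getD_eq_getElem _ _ (show i.1 < ysE.length from i.2)]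
  exact List.mem_append_left _ (List.mem_append_left _ (List.mem_append_right _ (List.getElem_mem _)))

/-- The first half of the basis. -/
noncomputable def bx (i : Fin 5) : MulAut Fi22 := ev (xsE.getD i (false, []))

/-- The second half of the basis. -/
noncomputable def bY (i : Fin 5) : MulAut Fi22 := ev (ysE.getD i (false, []))

theorem basis : Basis jT bx bY where
  sq := jT_sq
  ne := jT_ne
  cx i := (mem_centralizer_singleton_iff.1 (ev_mem_cent (mem_allE_x i)))
  cy i := (mem_centralizer_singleton_iff.1 (ev_mem_cent (mem_allE_y i)))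
  sqx i := by
    have hk := sq_ok
    simp only [sqK, Bool.and_eq_true] at hk
    have hm : xsE.getD i (false, []) ∈ xsE := by
      rw [List.getD_eq_getElem _ _ (show i.1 < xsE.length from i.2)]; exact List.getElem_mem _
    have := eq_of_sameS (forall_pair (ok_all (mem_allE_x i)) (ok_all (mem_allE_x i))) (by simp)
      (List.all_eq_true.1 hk.1 _ hm)
    simpa [bx] using this
  sqy i := by
    have hk := sq_ok
    simp only [sqK, Bool.and_eq_true] at hk
    have hm : (ysE.getD i (false, []), syB.getD i false) ∈ ysE.zip syB := by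
      fin_cases i <;> decide
    have h1 := List.all_eq_true.1 hk.2 _ hm
    cases hb : syB.getD i false <;> rw [hb] at h1
    · left
      have := eq_of_sameS (forall_pair (ok_all (mem_allE_y i)) (ok_all (mem_allE_y i))) (by simp) h1
      simpa [bY] using this
    · right
      have := eq_of_sameS (forall_pair (ok_all (mem_allE_y i)) (ok_all (mem_allE_y i)))
        (by simp [tE_ok]) h1
      simpa [bY, jT] using this
  xx i k := by
    have hk := halfComm_ok
    simp only [halfCommK, Bool.and_eq_true] at hk
    have hm : ∀ i : Fin 5, xsE.getD i (false, []) ∈ xsE := fun i => by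
      rw [List.getD_eq_getElem _ _ (show i.1 < xsE.length from i.2)]; exact List.getElem_mem _
    have := eq_of_sameS (forall_pair (ok_all (mem_allE_x i)) (ok_all (mem_allE_x k)))
      (forall_pair (ok_all (mem_allE_x k)) (ok_all (mem_allE_x i)))
      (List.all_eq_true.1 (List.all_eq_true.1 hk.1 _ (hm i)) _ (hm k))
    simpa [bx] using this
  yy i k := by
    have hk := halfComm_ok
    simp only [halfCommK, Bool.and_eq_true] at hk
    have hm : ∀ i : Fin 5, ysE.getD i (false, []) ∈ ysE := fun i => by
      rw [List.getD_eq_getElem _ _ (show i.1 < ysE.length from i.2)]; exact List.getElem_mem _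
    have := eq_of_sameS (forall_pair (ok_all (mem_allE_y i)) (ok_all (mem_allE_y k)))
      (forall_pair (ok_all (mem_allE_y k)) (ok_all (mem_allE_y i)))
      (List.all_eq_true.1 (List.all_eq_true.1 hk.2 _ (hm i)) _ (hm k))
    simpa [bY] using this
  yx i k := by
    have h1 := List.all_eq_true.1 (List.all_eq_true.1 pair_ok i.1 (List.mem_range.2 i.2)) k.1
      (List.mem_range.2 k.2)
    have hb : Nat.beq i.1 k.1 = decide (i = k) := by
      by_cases h : i = k
      · subst h; simp
      · rw [decide_eq_false h, Bool.eq_false_iff]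
        exact fun e => h (Fin.ext (Nat.eq_of_beq_eq_true e))
    rw [hb] at h1
    by_cases h : i = k
    · rw [decide_eq_true h] at h1
      rw [if_pos h]
      have := eq_of_sameS (forall_pair (ok_all (mem_allE_y i)) (ok_all (mem_allE_x k)))
        (fun e he => by
          simp only [cond_true, List.mem_cons, List.not_mem_nil, or_false] at he
          rcases he with rfl | rfl | rfl
          exacts [ok_all (mem_allE_x k), ok_all (mem_allE_y i), tE_ok]) h1
      simpa [bx, bY, jT, mul_assoc] using this
    · rw [decide_eq_false h] at h1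
      rw [if_neg h, mul_one]
      have := eq_of_sameS (forall_pair (ok_all (mem_allE_y i)) (ok_all (mem_allE_x k)))
        (forall_pair (ok_all (mem_allE_x k)) (ok_all (mem_allE_y i))) h1
      simpa [bx, bY] using this

theorem mem_act {e : Bool × List ℕ} (h : e ∈ xsE ++ ysE) : ∃ hm : ev e ∈ stab40, act40 ⟨ev e, hm⟩ = 1 := by
  have hk := act_ok
  simp only [actK, Bool.and_eq_true] at hk
  refine act40_eq_one (ok_all ?_) (List.all_eq_true.1 hk.1.1 e h)
  exact List.mem_append_left _ (List.mem_append_left _ h)

/-- The forty generators as permutations. -/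
theorem rows_perm : cRows.all (fun r => Nat.beq r.length 40 && decide r.Nodup && r.all fun i => Nat.blt i 40) = true := by
  decide +kernel

theorem wIx_spec : wIx.all (fun v => Nat.blt v 40) = true := by decide +kernel

theorem outRow_spec : (Nat.beq outRow.length 40 && decide outRow.Nodup && outRow.all fun i => Nat.blt i 40) = true := by
  decide +kernel

/-- A permutation from a row. -/
theorem exists_row {r : List ℕ}
    (h : (Nat.beq r.length 40 && decide r.Nodup && r.all fun i => Nat.blt i 40) = true) :
    ∃ σ : Equiv.Perm (Fin 40), ∀ i : Fin 40, (σ i : ℕ) = r.getD i 40 := by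
  simp only [Bool.and_eq_true, decide_eq_true_eq, List.all_eq_true] at h
  obtain ⟨⟨hlen, hnd⟩, hlt⟩ := h
  have hlen' : r.length = 40 := Nat.eq_of_beq_eq_true hlen
  have hi : ∀ i : Fin 40, (i : ℕ) < r.length := fun i => by rw [hlen']; exact i.2
  let f : Fin 40 → Fin 40 := fun i => ⟨r[i.1]'(hi i), Nat.le_of_ble_eq_true (hlt _ (List.getElem_mem _))⟩
  have hf : Function.Injective f := fun a b e => Fin.ext ((hnd.getElem_inj_iff).1 (congrArg Fin.val e))
  exact ⟨Equiv.ofBijective f ⟨hf, Finite.injective_iff_surjective.1 hf⟩,
    fun i => (List.getD_eq_getElem _ _ (hi i)).symm⟩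

/-- The permutation of the outer element. -/
noncomputable def cOut : Equiv.Perm (Fin 40) := (exists_row outRow_spec).choose

theorem cOut_spec (i : Fin 40) : (cOut i : ℕ) = outRow.getD i 40 := (exists_row outRow_spec).choose_spec i

theorem out_act : ∃ hm : ev outE ∈ stab40, act40 ⟨ev outE, hm⟩ = cOut := by
  have hk := act_ok
  simp only [actK, Bool.and_eq_true] at hk
  exact move_spec (ok_all (List.mem_append_right _ List.mem_cons_self)) hk.2 cOut cOut_spec

end CfsgLib.Sporadic.FiTransfer.TwoCentral
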