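import Cfsg.Agent.Lib.Sporadic.FiTransfer.TwoCentral.Perm

/-!
The centraliser of the involution fixes the pair of points.
-/

set_option autoImplicit false
set_option maxRecDepth 100000

open Cfsg.Spor Subgroup

namespace CfsgLib.Sporadic.FiTransfer.TwoCentral

open CosetCert CosetCert.FiP CosetCert.FiP.OutFi22
open CosetCert.FiData (table)

attribute [local irreducible] PTab.img symAt

theorem pPts_lt : ∀ p ∈ pPts, p < table.N := by decide +kernel

theorem pGen_lt : ∀ L ∈ pGen, ∀ x ∈ L, x < 9 := by decide +kernel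

theorem pGen_comm : pGen.all (fun L => sameS [(false, L), tE] [tE, (false, L)]) = true := by decide +kernel

/-- The product of the two transpositions. -/
noncomputable def tF : Fi22 := dp vP * dp uP

theorem el_tE : el tE.2 = tF := by
  rw [tF, vP, uP, ← gen_eq_dp 2 (by norm_num), ← gen_eq_dp 0 (by norm_num)]
  show 1 * coding.gen 2 * coding.gen 0 = _
  rw [one_mul]

theorem fixed_cases {p : Fin table.N} (h : hom tF p = p) :
    p = uP ∨ p = vP ∨ (p : ℕ) ∈ pPts := by
  have h' : app tE p = p := by
    show table.imgW tE.2 p = p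
    rw [← el_img (L := tE.2) (by unfold tE; decide), el_tE, h]
  have hs := List.all_eq_true.1 fixScan_ok p.1 (List.mem_range.2 p.2)
  rw [Nat.beq_eq.mpr h'] at hs
  simp only [Bool.not_true, Bool.false_or, Bool.or_eq_true, List.contains_iff_mem] at hs
  rcases hs with (e | e) | e
  · exact Or.inl (Fin.ext ((Nat.eq_of_beq_eq_true e).trans uP_val.symm))
  · exact Or.inr (Or.inl (Fin.ext ((Nat.eq_of_beq_eq_true e).trans vP_val.symm)))
  · exact Or.inr (Or.inr e)

/-- The first of the common neighbours. -/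
noncomputable def p0 : Fin table.N := ⟨pPts.getD 0 3510, by decide +kernel⟩

theorem search_spec : ∀ (steps : List (ℕ × ℕ × ℕ)) (seen : List ℕ), pSearchK steps seen = true →
    (∀ p ∈ seen, ∀ (hp : p < table.N), ∃ g : Fi22, Commute g tF ∧ hom g p0 = ⟨p, hp⟩) →
    (∀ p ∈ seen, p < table.N) → ∀ p ∈ pPts, ∀ (hp : p < table.N), ∃ g : Fi22, Commute g tF ∧ hom g p0 = ⟨p, hp⟩
  | [], seen, h, hs, _ => fun p hp => hs p (List.contains_iff_mem.1 (List.all_eq_true.1 h p hp))
  | s :: r, seen, h, hs, hlt => by
    simp only [pSearchK, Bool.and_eq_true] at h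
    obtain ⟨⟨⟨h1, h2⟩, h3⟩, h4⟩ := h
    have h1' : s.2.1 < seen.length := Nat.le_of_ble_eq_true h1
    have h2' : s.2.2 < pGen.length := Nat.le_of_ble_eq_true h2
    rw [List.getD_eq_getElem _ _ h1', List.getD_eq_getElem _ _ h2'] at h3
    have hL := pGen_lt _ (List.getElem_mem h2')
    have hq := hlt _ (List.getElem_mem h1')
    obtain ⟨g, hg, hgp⟩ := hs _ (List.getElem_mem h1') hq
    have hc : Commute (el pGen[s.2.2]) tF := by
      have e := eq_of_sameS (A := [(false, pGen[s.2.2]), tE]) (B := [tE, (false, pGen[s.2.2])])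
        (by intro e he; simp at he; rcases he with rfl | rfl; exacts [hL, tE_ok])
        (by intro e he; simp at he; rcases he with rfl | rfl; exacts [tE_ok, hL])
        (List.all_eq_true.1 pGen_comm _ (List.getElem_mem h2'))
      have e2 : MulAut.conj (el pGen[s.2.2] * tF) = MulAut.conj (tF * el pGen[s.2.2]) := by
        rw [map_mul, map_mul, ← el_tE]
        simpa [ev, tE] using e
      refine inv_mul_eq_one.1 (conj_eq_one fun z => ?_) |>.symm
      have h5 := DFunLike.congr_fun e2 z
      simp only [MulAut.conj_apply] at h5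
      calc _ = (tF * el pGen[s.2.2])⁻¹ * ((el pGen[s.2.2] * tF) * z * (el pGen[s.2.2] * tF)⁻¹) *
            (tF * el pGen[s.2.2]) := by group
        _ = z := by rw [h5]; group
    have hnew : ∀ (hp : s.1 < table.N), ∃ g : Fi22, Commute g tF ∧ hom g p0 = ⟨s.1, hp⟩ := fun hp =>
      ⟨el pGen[s.2.2] * g, hc.mul_left hg, Fin.ext (by
        rw [map_mul, Equiv.Perm.mul_apply, hgp, el_img hL]
        exact Nat.eq_of_beq_eq_true h3)⟩
    have hs1 : s.1 < table.N := by
      rw [← Nat.eq_of_beq_eq_true h3, ← el_img hL ⟨_, hq⟩]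
      exact Fin.is_lt _
    refine search_spec r _ h4 (fun p hp => ?_) (fun p hp => ?_)
    · rcases List.mem_append.1 hp with hp | hp
      · exact hs p hp
      · rw [List.mem_singleton] at hp; subst hp; exact hnew
    · rcases List.mem_append.1 hp with hp | hp
      · exact hlt p hp
      · rw [List.mem_singleton] at hp; subst hp; exact hs1

theorem fix_card (q : Fin table.N) : (Finset.univ.filter fun v => hom (dp q) v = v).card = 694 := by
  classical
  obtain ⟨c, hc⟩ := transitive q
  have h0 : (Finset.univ.filter fun v => hom (coding.gen 0) v = v).card = 694 :=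
    (card_fix (fun v => table.imgW [0] v) _ (gen_img (by norm_num))).trans
      (Nat.eq_of_beq_eq_true (List.all_eq_true.1 gen_fix 0 (List.mem_range.2 (by norm_num))))
  rw [← h0]
  refine (Finset.card_bij (fun v _ => hom c v) (fun v hv => ?_) (fun a _ b _ e => (hom c).injective e)
    fun w hw => ?_).symm
  · simp only [Finset.mem_filter, Finset.mem_univ, true_and] at hv ⊢
    rw [dp_eq hc, map_mul, map_mul, Equiv.Perm.mul_apply, Equiv.Perm.mul_apply, hom_inv_apply, hv]
  · refine ⟨hom c⁻¹ w, ?_, ?_⟩
    · simp only [Finset.mem_filter, Finset.mem_univ, true_and] at hw ⊢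
      rw [dp_eq hc, map_mul, map_mul, Equiv.Perm.mul_apply, Equiv.Perm.mul_apply] at hw
      conv_rhs => rw [← hw, hom_inv_apply]
    · rw [← Equiv.Perm.mul_apply, ← map_mul, mul_inv_cancel, map_one, Equiv.Perm.one_apply]

theorem p0_ne (q : Fin table.N) : dp p0 * tF ≠ dp q := by
  intro e
  have hK := notTr_ok
  simp only [notTrK, Bool.and_eq_true, Bool.not_eq_true'] at hK
  obtain ⟨hh, hne⟩ := hK
  have hw : dp p0 = el (fullWord pHalf) := dp_of_half (p := p0) hh
  have hl : ∀ x ∈ [0, 2] ++ fullWord pHalf, x < 9 := fun x hx => by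
    rcases List.mem_append.1 hx with hx | hx
    · simp at hx; omega
    · exact fullWord_lt hh x hx
  have h1 : el ([0, 2] ++ fullWord pHalf) = dp q := by
    rw [el_append, ← hw, ← e, ← el_tE]
    rfl
  have h2 := card_fix (fun v => table.imgW ([0, 2] ++ fullWord pHalf) v) (hom (dp q)) fun v => by
    rw [← h1, el_img hl]
  rw [fix_card] at h2
  rw [Nat.beq_eq.mpr h2.symm] at hne
  exact Bool.noConfusion hne

theorem tF_sq : tF * tF = 1 := by
  calc _ = dp vP * (dp uP * dp vP) * dp uP := by rw [tF]; group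
    _ = dp vP * dp vP * (dp uP * dp uP) := by rw [pair_comm.eq]; group
    _ = 1 := by rw [dp_sq, dp_sq, one_mul]

theorem pair_unique {a b : Fin table.N} (h : dp a * dp b = tF) : (a = uP ∧ b = vP) ∨ (a = vP ∧ b = uP) := by
  have hab : Commute (dp a) (dp b) := by
    have h1 : dp a * dp b * (dp a * dp b) = 1 := by rw [h, tF_sq]
    show dp a * dp b = dp b * dp a
    calc dp a * dp b = dp a * dp b * (dp b * dp a) * (dp a * dp b * (dp a * dp b))⁻¹ * (dp a * dp b) := by
          rw [h1]
          calc dp a * dp b = 1 * (dp a * dp b) := (one_mul _).symm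
            _ = dp a * (dp b * dp b) * dp a * (dp a * dp b) := by rw [dp_sq, mul_one, dp_sq]
            _ = dp a * dp b * (dp b * dp a) * 1⁻¹ * (dp a * dp b) := by group
      _ = dp a * dp b * (dp b * dp a) * (dp a * dp b)⁻¹ := by group
      _ = dp a * (dp b * dp b) * dp a * (dp a * dp b)⁻¹ := by group
      _ = dp b * dp a := by
          rw [dp_sq, mul_one, dp_sq, one_mul, mul_inv_rev, inv_eq_of_mul_eq_one_right (dp_sq b),
            inv_eq_of_mul_eq_one_right (dp_sq a)]
  have hfix : hom tF a = a := by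
    have := conj_dp tF a
    rw [← h] at this ⊢
    refine dp_injective (this.symm.trans ?_)
    have hca : Commute (dp a * dp b) (dp a) := (Commute.refl _).mul_left hab.symm
    rw [hca.eq, mul_inv_cancel_right]
  have cancel : ∀ x, dp x * (dp x * dp b) = dp b := fun x => by rw [← mul_assoc, dp_sq, one_mul]
  rcases fixed_cases hfix with rfl | rfl | hp
  · refine Or.inl ⟨rfl, dp_injective ?_⟩
    rw [← cancel uP, h, tF, ← mul_assoc, pair_comm.eq, mul_assoc, dp_sq, mul_one]
  · refine Or.inr ⟨rfl, dp_injective ?_⟩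
    rw [← cancel vP, h, tF, ← mul_assoc, dp_sq, one_mul]
  · exfalso
    obtain ⟨g, hg, hga⟩ := search_spec _ _ pSearch_ok (fun p hp' hlt => by
        rw [List.mem_singleton] at hp'; subst hp'
        exact ⟨1, Commute.one_left _, by rw [map_one, Equiv.Perm.one_apply]; rfl⟩)
      (fun p hp' => by rw [List.mem_singleton] at hp'; subst hp'; exact p0.2) a hp a.2
    refine p0_ne (hom g⁻¹ b) ?_
    have h0 : hom g⁻¹ a = p0 := by
      rw [← hom_inv_apply g p0, hga]
    rw [← h0, ← conj_dp, ← conj_dp]
    have hb : dp b = dp a * tF := by rw [← h, cancel]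
    rw [hb]
    calc g⁻¹ * dp a * g⁻¹⁻¹ * tF = g⁻¹ * dp a * (g * tF) := by group
      _ = g⁻¹ * (dp a * tF) * g⁻¹⁻¹ := by rw [hg.eq]; group

/-- The pair of points. -/
noncomputable def pair : Set (Fin table.N) := {uP, vP}

theorem pm_pair {α : MulAut Fi22} (h : α ∈ centralizer ({jT} : Set (MulAut Fi22))) (p : Fin table.N) (hp : p ∈ pair) :
    pm α p ∈ pair := by
  have hc := mem_centralizer_singleton_iff.1 h
  have hα : α tF = tF := by
    have h1 : MulAut.conj (α tF) = MulAut.conj tF := by
      rw [jT_eq, ← tF] at hc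
      refine MulEquiv.ext fun z => ?_
      have := DFunLike.congr_fun hc (α⁻¹ z)
      simp only [MulAut.mul_apply, MulAut.conj_apply, map_mul, map_inv, MulAut.apply_inv_self] at this
      rw [MulAut.conj_apply, MulAut.conj_apply, this]
    refine (inv_mul_eq_one.1 (conj_eq_one fun z => ?_)).symm
    have h5 := DFunLike.congr_fun h1 z
    simp only [MulAut.conj_apply] at h5
    calc _ = tF⁻¹ * (α tF * z * (α tF)⁻¹) * tF := by group
      _ = z := by rw [h5]; group
  have h2 : dp (pm α vP) * dp (pm α uP) = tF := by rw [← pm_spec, ← pm_spec, ← map_mul]; exact hα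
  rcases pair_unique h2 with ⟨e1, e2⟩ | ⟨e1, e2⟩ <;> rcases hp with rfl | rfl
  · exact Or.inr e2
  · exact Or.inl e1
  · exact Or.inl e2
  · exact Or.inr e1

end CfsgLib.Sporadic.FiTransfer.TwoCentral
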