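import Cfsg.Agent.Lib.Sporadic.FiTransfer.TwoCentral.Structure
import Cfsg.Agent.Lib.Sporadic.FiTransfer.Model

/-!
The centraliser in the automorphism group of a product of two commuting transpositions, in any group
of type M(22) given by its model.
-/

set_option autoImplicit false
set_option maxRecDepth 100000

open Cfsg.Spor Subgroup

namespace CfsgLib.Sporadic.FiTransfer.TwoCentral

open CosetCert CosetCert.FiP CosetCert.FiP.OutFi22
open CosetCert.FiData (table)

attribute [local irreducible] PTab.img symAt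

theorem dp_range {y : Fi22} (hy : y ∈ classTr) : ∃ p, dp p = y := by
  obtain ⟨g, rfl⟩ := isConj_iff.1 hy
  refine ⟨hom g pt, ?_⟩
  rw [← conj_dp, dp_pt]
  exact congrArg (fun z => g * z * g⁻¹) (coding.gen_code Fi22.Gen.a)

theorem commuting_trans {p q : Fin table.N} (hne : p ≠ q) (h : Commute (dp p) (dp q)) :
    ∃ g : Fi22, hom g uP = p ∧ hom g vP = q := by
  classical
  obtain ⟨O₁, hO₁, e₁, hc₁⟩ := suborbit (b := 6) (by decide +kernel) FiData.search693_ok
  obtain ⟨O₂, hO₂, e₂, hc₂⟩ := suborbit (b := 1) (by decide +kernel) FiData.search2816_ok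
  rw [show FiData.search693.length = 692 by decide +kernel] at hc₁
  rw [show FiData.search2816.length = 2815 by decide +kernel] at hc₂
  have hp₁ : pt ∉ O₁ := by
    rw [e₁, PTab.mem_maskSet]
    show ¬ Nat.testBit _ 0 = true
    decide +kernel
  have hp₂ : pt ∉ O₂ := by
    rw [e₂, PTab.mem_maskSet]
    show ¬ Nat.testBit _ 0 = true
    decide +kernel
  have hdisj : Disjoint O₁ O₂ := by
    refine disjoint_of_not_mem _ _ hO₁ hO₂ ?_
    rw [e₁, PTab.mem_maskSet]
    show ¬ Nat.testBit _ 1 = true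
    decide +kernel
  have huniv : insert pt (O₁ ∪ O₂) = Finset.univ := by
    refine Finset.eq_univ_of_card _ ?_
    rw [Finset.card_insert_of_notMem (by simp [hp₁, hp₂]), Finset.card_union_of_disjoint hdisj,
      hc₁, hc₂, Fintype.card_fin]
    rfl
  obtain ⟨c, hc⟩ := transitive p
  have hu : uP = pt := Fin.ext uP_val
  have hqc : q = hom c (hom c⁻¹ q) := by
    rw [← Equiv.Perm.mul_apply, ← map_mul, mul_inv_cancel, map_one, Equiv.Perm.one_apply]
  generalize hom c⁻¹ q = r at hqc
  subst hc hqc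
  have hr : hom (coding.gen 0) r = r := by
    refine (hom c).injective ?_
    have h1 : hom (dp (hom c pt)) (hom c r) = hom c r := dp_injective (by
      rw [← conj_dp, h.eq, mul_inv_cancel_right])
    rwa [← conj_dp, dp_pt, map_mul, map_mul, Equiv.Perm.mul_apply, Equiv.Perm.mul_apply, hom_inv_apply] at h1
  have hx : r ∈ insert pt (O₁ ∪ O₂) := huniv ▸ Finset.mem_univ _
  rw [Finset.mem_insert, Finset.mem_union] at hx
  rcases hx with hx | hx | hx
  · exact absurd (congrArg (hom c) hx).symm hne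
  · rw [← Finset.mem_coe, hO₁] at hx
    obtain ⟨⟨π, hπ⟩, he⟩ := hx
    obtain ⟨k, hk, rfl⟩ := Subgroup.mem_map.1 hπ
    refine ⟨c * k, ?_, ?_⟩
    · rw [map_mul, Equiv.Perm.mul_apply, hu, hom_fix k hk]
    · rw [map_mul, Equiv.Perm.mul_apply, ← show hom k _ = r from he]
      exact congrArg (fun z => hom c (hom k z)) (Fin.ext vP_val)
  · exfalso
    rw [← Finset.mem_coe, hO₂] at hx
    obtain ⟨⟨π, hπ⟩, he⟩ := hx
    obtain ⟨k, hk, rfl⟩ := Subgroup.mem_map.1 hπ
    have he' : hom k _ = r := he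
    rw [← he', ← Equiv.Perm.mul_apply, ← map_mul, ← (gen_zero_comm hk).eq, map_mul,
      Equiv.Perm.mul_apply] at hr
    have h1 := congrArg Fin.val ((hom k).injective hr)
    rw [gen_img (by norm_num)] at h1
    revert h1
    show table.imgW [0] 1 = 1 → False
    decide +kernel

theorem two_central {G : Type*} [Group G] {D : Set G} (hM : ModelIso G D) (d₁ d₂ : G) (h₁ : d₁ ∈ D)
    (h₂ : d₂ ∈ D) (hne : d₁ ≠ d₂) (hc : Commute d₁ d₂) (j : MulAut G) (hj : j = MulAut.conj (d₁ * d₂))
    (Q : Subgroup (MulAut G))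
    (hQ : Q = (Cfsg.generalizedFittingSubgroup ↥(centralizer ({j} : Set (MulAut G)))).map
      (centralizer ({j} : Set (MulAut G))).subtype) :
    Cfsg.IsLargeExtraspecial Q ∧ Nat.card Q = 2 ^ 11 ∧ Q ≤ centralizer ({j} : Set (MulAut G)) ∧
      ∃ (_ : (Q.subgroupOf (centralizer ({j} : Set (MulAut G)))).Normal) (F : Type) (_ : Field F) (_ : Fintype F),
        Fintype.card F = 4 ∧ Nonempty (↥(centralizer ({j} : Set (MulAut G))) ⧸
          Q.subgroupOf (centralizer ({j} : Set (MulAut G))) ≃* MulAut (Cfsg.PSU 4 F 2)) := by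
  obtain ⟨e, he⟩ := hM
  obtain ⟨p, hp⟩ := dp_range ((mem_iff_of_image e he).1 h₁)
  obtain ⟨q, hq⟩ := dp_range ((mem_iff_of_image e he).1 h₂)
  obtain ⟨g, hgu, hgv⟩ := commuting_trans (p := q) (q := p)
    (fun h => hne (e.injective (by rw [← hp, ← hq, h]))) (by rw [hp, hq]; exact (hc.map e.toMonoidHom).symm)
  let e' : G ≃* Fi22 := e.trans (MulAut.conj g⁻¹)
  haveI := finite_aut
  haveI : Finite (MulAut G) := Finite.of_equiv _ (MulAut.congr e').symm.toEquiv
  have hd : e' (d₁ * d₂) = tF := by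
    show MulAut.conj g⁻¹ (e (d₁ * d₂)) = dp vP * dp uP
    rw [map_mul e, map_mul, ← hp, ← hq, MulAut.conj_apply, MulAut.conj_apply, conj_dp, conj_dp, ← hgu, ← hgv,
      hom_inv_apply, hom_inv_apply]
  refine centralizer_two (MulAut.congr e') j ?_ Q hQ
  rw [jT_eq, ← tF, ← hd, hj]
  refine MulEquiv.ext fun z => ?_
  show e' (MulAut.conj (d₁ * d₂) (e'.symm z)) = _
  rw [MulAut.conj_apply, MulAut.conj_apply, map_mul, map_mul, map_inv, e'.apply_symm_apply]

end CfsgLib.Sporadic.FiTransfer.TwoCentral
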