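import Cfsg.Agent.Lib.Sporadic.FiTransfer.TwoCentral.Pair
import Cfsg.Agent.Lib.Classical.PSpThree.Iso

/-!
Forty sets of points permuted by the centraliser of the involution.
-/

set_option autoImplicit false
set_option maxRecDepth 100000

open Cfsg.Spor Subgroup

namespace CfsgLib.Sporadic.FiTransfer.TwoCentral

open CosetCert CosetCert.FiP CosetCert.FiP.OutFi22
open CosetCert.FiData (table)

attribute [local irreducible] PTab.img symAt

theorem objPts_spec : objPts.all (fun l => l.all (fun p => Nat.blt p 3510) && Nat.beq l.length 36 &&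
    decide l.Nodup) = true := by decide +kernel

theorem objPts_len : objPts.length = 40 := by decide +kernel

theorem objPts_sep : (List.range 40).all (fun i => (List.range 40).all (fun k =>
    Nat.beq i k || (objPts.getD i []).any (fun p => !(Nat.testBit (maskOf (objPts.getD k [])) p)))) = true := by
  decide +kernel

theorem testBit_maskOf (l : List ℕ) (p : ℕ) : Nat.testBit (maskOf l) p = true ↔ p ∈ l := by
  induction l with
  | nil => simp [maskOf]
  | cons a l ih =>
    show Nat.testBit (Nat.lor (Nat.shiftLeft 1 a) (maskOf l)) p = true ↔ _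
    change Nat.testBit (1 <<< a ||| maskOf l) p = true ↔ _
    rw [Nat.testBit_or, Bool.or_eq_true, ih, Nat.one_shiftLeft, Nat.testBit_two_pow, decide_eq_true_eq,
      List.mem_cons]
    exact or_congr eq_comm Iff.rfl

/-- One of the forty sets. -/
noncomputable def obj (i : Fin 40) : Finset (Fin table.N) :=
  Finset.univ.filter fun p => (p : ℕ) ∈ objPts.getD i []

theorem mem_obj {i : Fin 40} {p : Fin table.N} : p ∈ obj i ↔ (p : ℕ) ∈ objPts.getD i [] := by
  simp [obj]

theorem obj_row (i : Fin 40) : (∀ p ∈ objPts.getD i [], p < 3510) ∧ (objPts.getD i []).length = 36 ∧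
    (objPts.getD i []).Nodup := by
  have hi : (i : ℕ) < objPts.length := by rw [objPts_len]; exact i.2
  have h := List.all_eq_true.1 objPts_spec _ (List.getElem_mem hi)
  rw [List.getD_eq_getElem _ _ hi]
  simp only [Bool.and_eq_true, List.all_eq_true, decide_eq_true_eq] at h
  exact ⟨fun p hp => Nat.le_of_ble_eq_true (h.1.1 p hp), Nat.eq_of_beq_eq_true h.1.2, h.2⟩

theorem card_obj (i : Fin 40) : (obj i).card = 36 := by
  obtain ⟨hlt, hlen, hnd⟩ := obj_row i
  rw [← hlen, ← List.toFinset_card_of_nodup hnd]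
  exact Finset.card_bij (fun p _ => (p : ℕ)) (fun p hp => List.mem_toFinset.2 (mem_obj.1 hp))
    (fun a _ b _ e => Fin.ext e) fun p hp => ⟨⟨p, hlt p (List.mem_toFinset.1 hp)⟩,
      mem_obj.2 (List.mem_toFinset.1 hp), rfl⟩

theorem obj_injective : Function.Injective obj := by
  intro i k h
  by_contra hne
  have hK := List.all_eq_true.1 (List.all_eq_true.1 objPts_sep i.1 (List.mem_range.2 i.2)) k.1
    (List.mem_range.2 k.2)
  rw [Bool.eq_false_iff.mpr (fun e => hne (Fin.ext (Nat.eq_of_beq_eq_true e))), Bool.false_or,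
    List.any_eq_true] at hK
  obtain ⟨p, hp, hb⟩ := hK
  have hm : (⟨p, (obj_row i).1 p hp⟩ : Fin table.N) ∈ obj i := mem_obj.2 hp
  rw [h, mem_obj, ← testBit_maskOf] at hm
  rw [hm] at hb
  exact Bool.noConfusion hb

/-- The automorphisms permuting the forty sets. -/
noncomputable def stab40 : Subgroup (MulAut Fi22) where
  carrier := {α | ∃ σ : Equiv.Perm (Fin 40), ∀ i, (obj i).map (pm α).toEmbedding = obj (σ i)}
  one_mem' := ⟨1, fun i => by rw [map_one]; exact Finset.map_refl⟩
  mul_mem' := by
    rintro α β ⟨σ, hσ⟩ ⟨τ, hτ⟩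
    refine ⟨σ * τ, fun i => ?_⟩
    rw [Equiv.Perm.mul_apply, ← hσ, ← hτ, Finset.map_map, map_mul]
    rfl
  inv_mem' := by
    rintro α ⟨σ, hσ⟩
    refine ⟨σ⁻¹, fun i => ?_⟩
    have h := hσ (σ⁻¹ i)
    rw [← Equiv.Perm.mul_apply, mul_inv_cancel, Equiv.Perm.one_apply] at h
    rw [← h, Finset.map_map, map_inv]
    refine Eq.trans ?_ Finset.map_refl
    congr 1
    ext x
    simp

/-- The permutation of the forty sets. -/
noncomputable def act40 : stab40 →* Equiv.Perm (Fin 40) :=
  MonoidHom.mk' (fun α => α.2.choose) fun α β => Equiv.ext fun i => obj_injective (by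
    rw [← (α * β).2.choose_spec i, Equiv.Perm.mul_apply, ← α.2.choose_spec, ← β.2.choose_spec i,
      Finset.map_map, Subgroup.coe_mul, map_mul]
    rfl)

theorem act40_spec (α : stab40) (i : Fin 40) : (obj i).map (pm α.1).toEmbedding = obj (act40 α i) :=
  α.2.choose_spec i

theorem move_spec {e : Bool × List ℕ} (he : Ok e) {row : List ℕ} (h : moveK e row = true)
    (σ : Equiv.Perm (Fin 40)) (hσ : ∀ i : Fin 40, (σ i : ℕ) = row.getD i 40) :
    ∃ hm : ev e ∈ stab40, act40 ⟨ev e, hm⟩ = σ := by
  have key : ∀ i, (obj i).map (pm (ev e)).toEmbedding = obj (σ i) := by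
    intro i
    refine Finset.eq_of_subset_of_card_le (fun q hq => ?_) (by rw [Finset.card_map, card_obj, card_obj])
    obtain ⟨p, hp, rfl⟩ := Finset.mem_map.1 hq
    rw [mem_obj]
    have h' := List.all_eq_true.1 (List.all_eq_true.1 h i.1 (List.mem_range.2 i.2)) _ (mem_obj.1 hp)
    rw [testBit_maskOf] at h'
    rw [Equiv.toEmbedding_apply, pm_ev he, hσ]
    exact h'
  exact ⟨⟨σ, key⟩, Equiv.ext fun i => obj_injective ((act40_spec _ i).symm.trans (key i))⟩

theorem act40_eq_one {e : Bool × List ℕ} (he : Ok e) (h : moveK e (List.range 40) = true) :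
    ∃ hm : ev e ∈ stab40, act40 ⟨ev e, hm⟩ = 1 :=
  move_spec he h 1 fun i => by simp [List.getD_eq_getElem]

theorem perms_rows : ∀ v i : Fin 40, (CfsgLib.Classical.PSpThree.perms v i : ℕ) = (cRows.getD v []).getD i 40 := by
  decide +kernel

end CfsgLib.Sporadic.FiTransfer.TwoCentral
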