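import Cfsg.Agent.Lib.Sporadic.FiTransfer.TwoCentral.Checks
import Cfsg.Agent.Lib.Sporadic.Fi22Out.Main

/-!
The automorphism group of Fi22 on the 3510 points.
-/

set_option autoImplicit false
set_option maxRecDepth 100000

open Cfsg.Spor

namespace CfsgLib.Sporadic.FiTransfer.TwoCentral

open CosetCert CosetCert.FiP CosetCert.FiP.OutFi22
open CosetCert.FiData (table)

attribute [local irreducible] PTab.img symAt

theorem sym_mul_self : sym * sym = 1 := MulEquiv.ext symHom_sq

theorem exists_perm (α : MulAut Fi22) : ∃ π : Equiv.Perm (Fin table.N), ∀ p, α (dp p) = dp (π p) := by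
  rcases aut_cases α with h | h <;> obtain ⟨g, hg⟩ := h
  · exact ⟨hom g, fun p => by rw [← hg, MulAut.conj_apply, conj_dp]⟩
  · refine ⟨symPerm * hom g, fun p => ?_⟩
    have e : α = sym * MulAut.conj g := by rw [hg, ← mul_assoc, sym_mul_self, one_mul]
    rw [e]
    show sym (g * dp p * g⁻¹) = _
    rw [conj_dp, sym_dp]
    rfl

/-- The permutation of the points of an automorphism. -/
noncomputable def pm : MulAut Fi22 →* Equiv.Perm (Fin table.N) :=
  MonoidHom.mk' (fun α => (exists_perm α).choose) fun α β => Equiv.ext fun p => dp_injective (by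
    rw [← (exists_perm (α * β)).choose_spec p]
    show α (β (dp p)) = _
    rw [(exists_perm β).choose_spec p, (exists_perm α).choose_spec]
    rfl)

theorem pm_spec (α : MulAut Fi22) (p : Fin table.N) : α (dp p) = dp (pm α p) :=
  (exists_perm α).choose_spec p

theorem eq_of_gpt {α β : MulAut Fi22} (h : ∀ x < 9, pm α (gpt x) = pm β (gpt x)) : α = β := by
  refine (inv_mul_eq_one.1 (eq_one_of_gens (β := β⁻¹ * α) fun x hx => ?_)).symm
  show β⁻¹ (α _) = _
  rw [pm_spec, h x hx, ← pm_spec, MulAut.inv_apply, MulEquiv.symm_apply_apply]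

theorem pm_injective : Function.Injective pm := fun α β h => eq_of_gpt fun x _ => by rw [h]

theorem pm_conj (g : Fi22) (p : Fin table.N) : pm (MulAut.conj g) p = hom g p :=
  dp_injective (by rw [← pm_spec, MulAut.conj_apply, conj_dp])

theorem pm_sym (p : Fin table.N) : pm sym p = symPerm p :=
  dp_injective (by rw [← pm_spec, sym_dp])

/-- The automorphism of a flagged word. -/
noncomputable def ev (e : Bool × List ℕ) : MulAut Fi22 :=
  (bif e.1 then sym else 1) * MulAut.conj (el e.2)

/-- The letters of a flagged word are in range. -/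
def Ok (e : Bool × List ℕ) : Prop := ∀ x ∈ e.2, x < 9

theorem pm_ev {e : Bool × List ℕ} (he : Ok e) (p : Fin table.N) : ((pm (ev e) p : Fin table.N) : ℕ) = app e p := by
  obtain ⟨f, L⟩ := e
  cases f
  · rw [ev, cond_false, one_mul, pm_conj, el_img he]
    rfl
  · rw [ev, cond_true, map_mul, Equiv.Perm.mul_apply, pm_conj, pm_sym]
    show symAt _ = symAt _
    rw [el_img he]

theorem pm_evS : ∀ {es : List (Bool × List ℕ)}, (∀ e ∈ es, Ok e) → ∀ p : Fin table.N,
    ((pm (es.map ev).prod p : Fin table.N) : ℕ) = appS es p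
  | [], _, p => by rw [List.map_nil, List.prod_nil, map_one]; rfl
  | e :: es, h, p => by
    rw [List.map_cons, List.prod_cons, map_mul, Equiv.Perm.mul_apply, pm_ev (h e List.mem_cons_self),
      pm_evS (fun f hf => h f (List.mem_cons_of_mem _ hf)) p]
    rfl

theorem eq_of_sameS {A B : List (Bool × List ℕ)} (hA : ∀ e ∈ A, Ok e) (hB : ∀ e ∈ B, Ok e)
    (h : sameS A B = true) : (A.map ev).prod = (B.map ev).prod := by
  refine eq_of_gpt fun x hx => Fin.ext ?_
  rw [pm_evS hA, pm_evS hB, gpt_val hx]
  refine Nat.eq_of_beq_eq_true (List.all_eq_true.1 h _ ?_)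
  rw [List.getD_eq_getElem _ _ (show x < genPts.length from hx)]
  exact List.getElem_mem _

theorem finite_aut : Finite (MulAut Fi22) := Finite.of_injective pm pm_injective

theorem card_aut_le : Nat.card (MulAut Fi22) ≤ 129123503308800 := by
  have := finite_aut
  have := finite
  classical
  let f : Fi22 ⊕ Fi22 → MulAut Fi22 := Sum.elim MulAut.conj fun g => sym * MulAut.conj g
  have hf : Function.Surjective f := fun α => by
    rcases aut_cases α with ⟨g, hg⟩ | ⟨g, hg⟩
    · exact ⟨Sum.inl g, hg⟩
    · refine ⟨Sum.inr g, ?_⟩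
      show sym * MulAut.conj g = α
      rw [hg, ← mul_assoc, sym_mul_self, one_mul]
  refine (Nat.card_le_card_of_surjective f hf).trans ?_
  rw [Nat.card_sum, card_eq.1]

/-- The first point of the pair. -/
noncomputable def uP : Fin table.N := gpt 0

/-- The second point of the pair. -/
noncomputable def vP : Fin table.N := gpt 2

theorem uP_val : (uP : ℕ) = 0 := gpt_val (by norm_num)

theorem vP_val : (vP : ℕ) = 6 := gpt_val (by norm_num)

/-- The involution. -/
noncomputable def jT : MulAut Fi22 := ev tE

theorem tE_ok : Ok tE := by unfold Ok tE; decide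

theorem jT_eq : jT = MulAut.conj (dp vP * dp uP) := by
  rw [vP, uP, ← gen_eq_dp 2 (by norm_num), ← gen_eq_dp 0 (by norm_num)]
  show 1 * MulAut.conj (el [0, 2]) = _
  rw [one_mul, show el [0, 2] = coding.gen 2 * coding.gen 0 from by
    show 1 * coding.gen 2 * coding.gen 0 = _
    rw [one_mul]]

theorem pair_comm : Commute (dp uP) (dp vP) := by
  refine comm_of_fix (Fin.ext ?_)
  rw [uP, ← gen_eq_dp 0 (by norm_num), ← el_single, el_img (by simp)]
  show table.imgW [0] ((vP : Fin table.N) : ℕ) = vP
  rw [vP_val]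
  decide +kernel

theorem uP_ne_vP : uP ≠ vP := fun e => by
  have := congrArg Fin.val e
  rw [uP_val, vP_val] at this
  exact absurd this (by norm_num)

end CfsgLib.Sporadic.FiTransfer.TwoCentral
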