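import Cfsg.Agent.Lib.Sporadic.FiTransfer.TwoCentral.Group
import Cfsg.Agent.S0283
import Mathlib.FieldTheory.Finite.GaloisField

/-!
The centraliser of a product of two commuting transpositions in the automorphism group of Fi22 is an
extraspecial group of order 2^11 by the automorphism group of PSU4(2).
-/

set_option autoImplicit false
set_option maxRecDepth 100000

open Cfsg.Spor Subgroup

namespace CfsgLib.Sporadic.FiTransfer.TwoCentral

open CosetCert CosetCert.FiP CosetCert.FiP.OutFi22
open CosetCert.FiData (table)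
open CfsgLib.Classical.PSpThree (perms exists_psp)

attribute [local irreducible] PTab.img symAt

set_option quotPrecheck false in
local notation "Cj" => Subgroup.centralizer ((Singleton.singleton jT : Set (MulAut Fi22)))

theorem mem_allE_w (i : Fin 4) : wsE.getD i (false, []) ∈ allE := by
  rw [List.getD_eq_getElem _ _ (show i.1 < wsE.length from i.2)]
  exact List.mem_append_left _ (List.mem_append_right _ (List.getElem_mem _))

theorem moves : sameS [wsE.getD 0 (false, []), xsE.getD 0 (false, [])] [xsE.getD 0 (false, []), wsE.getD 0 (false, [])] = false ∧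
    sameS [wsE.getD 0 (false, []), xsE.getD 0 (false, [])] [xsE.getD 0 (false, []), tE, wsE.getD 0 (false, [])] = false := by
  decide +kernel

theorem w_mem {c : Fin 40 → Equiv.Perm (Fin 40)} (hc : ∀ v i, c v i = perms v i) (i : Fin 4) (v : Fin 40)
    (hv : wIx.getD i 40 = (v : ℕ)) : ∃ hm : ev (wsE.getD i (false, [])) ∈ stab40, act40 ⟨_, hm⟩ = c v := by
  have hk := act_ok
  simp only [actK, Bool.and_eq_true] at hk
  have h := List.all_eq_true.1 hk.1.2 i.1 (List.mem_range.2 i.2)
  rw [hv] at h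
  exact move_spec (ok_all (mem_allE_w i)) h (c v) fun k => c_val hc v k

theorem centralizer_two {A : Type*} [Group A] [Finite A] (α : A ≃* MulAut Fi22) (j : A) (hjT : α j = jT)
    (Q : Subgroup A)
    (hQ : Q = (Cfsg.generalizedFittingSubgroup ↥(centralizer ({j} : Set A))).map
      (centralizer ({j} : Set A)).subtype) :
    Cfsg.IsLargeExtraspecial Q ∧ Nat.card Q = 2 ^ 11 ∧ Q ≤ centralizer ({j} : Set A) ∧
      ∃ (_ : (Q.subgroupOf (centralizer ({j} : Set A))).Normal) (F : Type) (_ : Field F) (_ : Fintype F),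
        Fintype.card F = 4 ∧
          Nonempty (↥(centralizer ({j} : Set A)) ⧸ Q.subgroupOf (centralizer ({j} : Set A)) ≃* MulAut (Cfsg.PSU 4 F 2)) := by
  classical
  have := finite_aut
  obtain ⟨φ, hker, hcard, c, hc, hrange⟩ := exists_psp
  set L0 : Subgroup (Equiv.Perm (Fin 40)) := closure (Set.range c) with hL0
  have hL0card : Nat.card L0 = 25920 := by rw [← hcard, hrange]
  -- the subgroup generated by the elements
  set H : Subgroup (MulAut Fi22) := closure (ev '' {e | e ∈ allE}) with hH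
  have hHC : H ≤ Cj := (closure_le _).2 (by rintro _ ⟨e, he, rfl⟩; exact ev_mem_cent he)
  have hwm : ∀ i : Fin 4, ev (wsE.getD i (false, [])) ∈ stab40 := fun i => by
    obtain ⟨v, hv⟩ : ∃ v : Fin 40, wIx.getD i 40 = (v : ℕ) := ⟨⟨wIx.getD i 40, by revert i; decide⟩, rfl⟩
    exact (w_mem hc i v hv).1
  have hHS : H ≤ stab40 := (closure_le _).2 (by
    rintro _ ⟨e, he, rfl⟩
    rcases List.mem_append.1 (he : e ∈ allE) with he | he
    · rcases List.mem_append.1 he with he | he
      · exact (mem_act he).1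
      · obtain ⟨i, hi, rfl⟩ := List.mem_iff_getElem.1 he
        have := hwm ⟨i, hi⟩
        rwa [List.getD_eq_getElem _ _ hi] at this
    · rw [List.mem_singleton.1 he]
      exact out_act.1)
  let ψ : H →* Equiv.Perm (Fin 40) := act40.comp (inclusion hHS)
  have hev : ∀ e, e ∈ allE → ev e ∈ H := fun e he => subset_closure ⟨e, he, rfl⟩
  have hcin : ∀ v, c v ∈ ψ.range := all_mem hc fun v hv => by
    obtain ⟨i, hi, hiv⟩ := List.mem_iff_getElem.1 hv
    have hi' : i < 4 := hi
    obtain ⟨hm, he⟩ := w_mem hc ⟨i, hi'⟩ v (by rw [List.getD_eq_getElem _ _ hi]; exact hiv)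
    exact ⟨⟨_, hev _ (mem_allE_w ⟨i, hi'⟩)⟩, he⟩
  have hL0le : L0 ≤ ψ.range := (closure_le _).2 (by rintro _ ⟨v, rfl⟩; exact hcin v)
  have hout : cOut ∈ ψ.range := by
    obtain ⟨hm, he⟩ := out_act
    exact ⟨⟨_, hev _ (List.mem_append_right _ List.mem_cons_self)⟩, he⟩
  have hrange2 : 51840 ≤ Nat.card ψ.range := by
    obtain ⟨k, hk⟩ := card_dvd_of_le hL0le
    rw [hL0card] at hk
    rcases k with - | - | k
    · exact absurd (hk.trans (mul_zero _)) Nat.card_pos.ne'
    · exfalso
      refine cOut_not_mem hc ?_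
      rw [← hL0, eq_of_le_of_card_ge hL0le (le_of_eq (by rw [hk, hL0card]))]
      exact hout
    · omega
  have hspanH : span jT bx bY ≤ H := by
    rw [span, closure_le]
    rintro _ ((rfl | ⟨i, rfl⟩) | ⟨i, rfl⟩)
    · have h := basis.yx 0 0
      rw [if_pos rfl] at h
      have e : jT = (bx 0 * bY 0)⁻¹ * (bY 0 * bx 0) := eq_inv_mul_of_mul_eq (by rw [h])
      exact e ▸ mul_mem (inv_mem (mul_mem (hev _ (mem_allE_x 0)) (hev _ (mem_allE_y 0))))
        (mul_mem (hev _ (mem_allE_y 0)) (hev _ (mem_allE_x 0)))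
    · exact hev _ (mem_allE_x i)
    · exact hev _ (mem_allE_y i)
  have hspanker : (span jT bx bY).subgroupOf H ≤ ψ.ker := by
    intro q hq
    have key : span jT bx bY ≤ ψ.ker.map H.subtype := by
      have hj : ∀ i, bx i ∈ ψ.ker.map H.subtype ∧ bY i ∈ ψ.ker.map H.subtype := fun i => by
        constructor
        · obtain ⟨hm, he⟩ := mem_act (List.mem_append_left ysE (List.getElem_mem (show i.1 < xsE.length from i.2)))
          refine ⟨⟨bx i, hev _ (mem_allE_x i)⟩, ?_, rfl⟩
          rw [SetLike.mem_coe, MonoidHom.mem_ker]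
          refine Eq.trans ?_ he
          exact congrArg act40 (Subtype.ext (congrArg ev (List.getD_eq_getElem _ _ _)))
        · obtain ⟨hm, he⟩ := mem_act (List.mem_append_right xsE (List.getElem_mem (show i.1 < ysE.length from i.2)))
          refine ⟨⟨bY i, hev _ (mem_allE_y i)⟩, ?_, rfl⟩
          rw [SetLike.mem_coe, MonoidHom.mem_ker]
          refine Eq.trans ?_ he
          exact congrArg act40 (Subtype.ext (congrArg ev (List.getD_eq_getElem _ _ _)))
      rw [span, closure_le]
      rintro _ ((rfl | ⟨i, rfl⟩) | ⟨i, rfl⟩)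
      · have h := basis.yx 0 0
        rw [if_pos rfl] at h
        have e : jT = (bx 0 * bY 0)⁻¹ * (bY 0 * bx 0) := eq_inv_mul_of_mul_eq (by rw [h])
        exact e ▸ mul_mem (inv_mem (mul_mem (hj 0).1 (hj 0).2)) (mul_mem (hj 0).2 (hj 0).1)
      · exact (hj i).1
      · exact (hj i).2
    obtain ⟨z, hz, e⟩ := key (mem_subgroupOf.1 hq)
    rwa [show q = z from Subtype.ext e.symm]
  have hkercard : 2 ^ 11 ≤ Nat.card ψ.ker := by
    rw [← basis.exists_coord.1, ← Nat.card_congr (subgroupOfEquivOfLe hspanH).toEquiv]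
    exact card_le_of_le hspanker
  have hmul : Nat.card ψ.ker * Nat.card ψ.range = Nat.card H := by
    rw [← index_ker, card_mul_index]
  have hHle : Nat.card H ≤ Nat.card Cj := card_le_of_le hHC
  have hCle := card_cent_le
  have hHge : 2 ^ 11 * 51840 ≤ Nat.card H := hmul ▸ Nat.mul_le_mul hkercard hrange2
  have hHeq : H = Cj := eq_of_le_of_card_ge hHC (by omega)
  have hr : Nat.card ψ.range = 51840 := by
    refine le_antisymm ?_ hrange2
    by_contra hlt
    rw [not_le] at hlt
    have : 2 ^ 11 * 51841 ≤ Nat.card H := hmul ▸ Nat.mul_le_mul hkercard hlt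
    omega
  have hk2 : Nat.card ψ.ker = 2 ^ 11 := by
    rw [hr] at hmul
    omega
  have hkereq : (span jT bx bY).subgroupOf H = ψ.ker :=
    eq_of_le_of_card_ge hspanker (by
      rw [hk2, Nat.card_congr (subgroupOfEquivOfLe hspanH).toEquiv, basis.exists_coord.1])
  let θ : ↥Cj →* Equiv.Perm (Fin 40) := ψ.comp (inclusion hHeq.ge)
  have hθr : θ.range = ψ.range := by
    rw [MonoidHom.range_comp, MonoidHom.range_eq_top.2, ← MonoidHom.range_eq_map]
    exact fun q => ⟨⟨q.1, hHC q.2⟩, rfl⟩
  have hθker : (span jT bx bY).subgroupOf Cj = θ.ker := by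
    ext q
    rw [MonoidHom.mem_ker, mem_subgroupOf, MonoidHom.comp_apply, ← MonoidHom.mem_ker, ← hkereq, mem_subgroupOf]
    rfl
  set L : Subgroup θ.range := L0.subgroupOf θ.range with hL
  have hL0θ : L0 ≤ θ.range := hθr.symm ▸ hL0le
  have hLcard : Nat.card L = 25920 := by rw [Nat.card_congr (subgroupOfEquivOfLe hL0θ).toEquiv, hL0card]
  haveI : L.Normal := normal_of_index_eq_two (by
    have h := L.card_mul_index
    rw [hLcard, (congrArg (fun K : Subgroup (Equiv.Perm (Fin 40)) => Nat.card K) hθr).trans hr] at h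
    omega)
  let eL : L ≃* Cfsg.PSp 2 (ZMod 3) :=
    (((subgroupOfEquivOfLe hL0θ).trans (MulEquiv.subgroupCongr hrange.symm)).trans
      (QuotientGroup.quotientKerEquivRange φ).symm).trans (QuotientGroup.quotientMulEquivOfEq hker)
  haveI : IsSimpleGroup (Cfsg.PSp 2 (ZMod 3)) :=
    CfsgLib.Classical.psp_isSimpleGroup (F := ZMod 3) 2 (le_refl 2) fun _ => by simp
  haveI : IsSimpleGroup L := eL.isSimpleGroup
  have hLp : commutator L = ⊤ := by
    refine (Normal.eq_bot_or_eq_top (inferInstance : (commutator L).Normal)).resolve_left fun e => ?_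
    have h0 : ∀ v, (⟨⟨c v, hL0θ (subset_closure ⟨v, rfl⟩)⟩, mem_subgroupOf.2 (subset_closure ⟨v, rfl⟩)⟩ : L) *
        ⟨⟨c 4, hL0θ (subset_closure ⟨4, rfl⟩)⟩, mem_subgroupOf.2 (subset_closure ⟨4, rfl⟩)⟩ =
        ⟨⟨c 4, hL0θ (subset_closure ⟨4, rfl⟩)⟩, mem_subgroupOf.2 (subset_closure ⟨4, rfl⟩)⟩ *
        ⟨⟨c v, hL0θ (subset_closure ⟨v, rfl⟩)⟩, mem_subgroupOf.2 (subset_closure ⟨v, rfl⟩)⟩ := fun v => by
      refine commutatorElement_eq_one_iff_mul_comm.1 ?_
      rw [← mem_bot, ← e, commutator_def]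
      exact commutator_mem_commutator (mem_top _) (mem_top _)
    have h1 := DFunLike.congr_fun (congrArg (fun x : L => x.1.1) (h0 0)) 0
    simp only [coe_mul, Equiv.Perm.mul_apply, hc] at h1
    revert h1
    decide +kernel
  have hLc : centralizer (L : Set θ.range) = ⊥ := by
    rw [eq_bot_iff]
    intro z hz
    rw [mem_bot]
    refine Subtype.ext (centralizer_trivial hc fun v => ?_)
    have hv : c v ∈ L0 := subset_closure ⟨v, rfl⟩
    exact congrArg Subtype.val
      (mem_centralizer_iff.1 hz ⟨c v, hL0θ hv⟩ (mem_subgroupOf.2 hv)).symm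
  obtain ⟨v0, hv0⟩ : ∃ v : Fin 40, wIx.getD 0 40 = (v : ℕ) := ⟨⟨wIx.getD 0 40, by decide⟩, rfl⟩
  obtain ⟨hw0, hw0'⟩ := w_mem hc 0 v0 hv0
  let w : ↥Cj := ⟨ev (wsE.getD 0 (false, [])), ev_mem_cent (mem_allE_w 0)⟩
  have hwL : θ.rangeRestrict w ∈ L := mem_subgroupOf.2 (show θ w ∈ L0 from
    (show θ w = c v0 from hw0') ▸ subset_closure ⟨v0, rfl⟩)
  have hmv : (w : MulAut Fi22) * bx 0 * (w : MulAut Fi22)⁻¹ ≠ bx 0 ∧
      (w : MulAut Fi22) * bx 0 * (w : MulAut Fi22)⁻¹ ≠ bx 0 * jT := by
    constructor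
    · intro e
      have := sameS_of_eq (forall_pair (ok_all (mem_allE_w 0)) (ok_all (mem_allE_x 0)))
        (forall_pair (ok_all (mem_allE_x 0)) (ok_all (mem_allE_w 0)))
        (by simpa [bx, w] using mul_inv_eq_iff_eq_mul.1 e)
      exact Bool.false_ne_true (moves.1.symm.trans this)
    · intro e
      have := sameS_of_eq (A := [wsE.getD (0 : Fin 4) (false, []), xsE.getD (0 : Fin 5) (false, [])])
        (B := [xsE.getD (0 : Fin 5) (false, []), tE, wsE.getD (0 : Fin 4) (false, [])])
        (forall_pair (ok_all (mem_allE_w 0)) (ok_all (mem_allE_x 0)))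
        (by
          intro f hf
          simp only [List.mem_cons, List.not_mem_nil, or_false] at hf
          rcases hf with rfl | rfl | rfl
          exacts [ok_all (mem_allE_x 0), tE_ok, ok_all (mem_allE_w 0)])
        (by simpa [bx, w, jT, mul_assoc] using mul_inv_eq_iff_eq_mul.1 e)
      exact Bool.false_ne_true (moves.2.symm.trans this)
  have hCiff : ∀ q : A, q ∈ centralizer ({j} : Set A) ↔ α q ∈ Cj := fun q => by
    rw [mem_centralizer_singleton_iff, mem_centralizer_singleton_iff, ← hjT, ← map_mul, ← map_mul,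
      α.injective.eq_iff]
  let π : ↥(centralizer ({j} : Set A)) ≃* ↥Cj :=
    { toFun := fun q => ⟨α q.1, (hCiff q.1).1 q.2⟩
      invFun := fun q => ⟨α.symm q.1, (hCiff _).2 (by rw [α.apply_symm_apply]; exact q.2)⟩
      left_inv := fun q => Subtype.ext (α.symm_apply_apply q.1)
      right_inv := fun q => Subtype.ext (α.apply_symm_apply q.1)
      map_mul' := fun a b => Subtype.ext (map_mul α a.1 b.1) }
  let θA : ↥(centralizer ({j} : Set A)) →* Equiv.Perm (Fin 40) := θ.comp π.toMonoidHom
  have hθA : θA.range = θ.range := by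
    rw [MonoidHom.range_comp, MonoidHom.range_eq_top.2 π.surjective, ← MonoidHom.range_eq_map]
  let xA : Fin 5 → A := fun i => α.symm (bx i)
  let yA : Fin 5 → A := fun i => α.symm (bY i)
  have hαx : ∀ i, α (xA i) = bx i := fun i => α.apply_symm_apply _
  have hαy : ∀ i, α (yA i) = bY i := fun i => α.apply_symm_apply _
  have basisA : Basis j xA yA :=
    { sq := α.injective (by rw [map_mul, hjT, map_one]; exact basis.sq)
      ne := fun e => basis.ne (by rw [← hjT, e, map_one])
      cx := fun i => α.injective (by rw [map_mul, map_mul, hαx, hjT]; exact basis.cx i)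
      cy := fun i => α.injective (by rw [map_mul, map_mul, hαy, hjT]; exact basis.cy i)
      sqx := fun i => α.injective (by rw [map_mul, hαx, map_one]; exact basis.sqx i)
      sqy := fun i => (basis.sqy i).imp (fun e => α.injective (by rw [map_mul, hαy, map_one]; exact e))
        (fun e => α.injective (by rw [map_mul, hαy, hjT]; exact e))
      xx := fun i k => α.injective (by rw [map_mul, map_mul, hαx, hαx]; exact basis.xx i k)
      yy := fun i k => α.injective (by rw [map_mul, map_mul, hαy, hαy]; exact basis.yy i k)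
      yx := fun i k => α.injective (by
        simp only [map_mul, hαx, hαy]
        split_ifs with h
        · rw [hjT]; simpa [h] using basis.yx i k
        · rw [map_one]; simpa [h] using basis.yx i k) }
  have hspanA : (span j xA yA).map α.toMonoidHom = span jT bx bY := by
    rw [span, span, MonoidHom.map_closure]
    congr 1
    simp only [Set.image_union, Set.image_singleton, MulEquiv.coe_toMonoidHom, hjT, ← Set.range_comp,
      Function.comp_def, hαx, hαy]
  have hkerA : (span j xA yA).subgroupOf (centralizer ({j} : Set A)) = θA.ker := by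
    ext q
    have h1 : θA q = 1 ↔ (π q : MulAut Fi22) ∈ span jT bx bY := by
      show θ (π q) = 1 ↔ _
      rw [← MonoidHom.mem_ker, ← hθker, mem_subgroupOf]
    rw [MonoidHom.mem_ker, h1, mem_subgroupOf, ← hspanA]
    exact ⟨fun h => mem_map_of_mem _ h, fun h => by
      obtain ⟨z, hz, e⟩ := h
      rwa [← α.injective e]⟩
  let ER : ↥θA.range ≃* ↥θ.range := MulEquiv.subgroupCongr hθA
  let LA : Subgroup θA.range := L0.subgroupOf θA.range
  have hLA : LA = L.comap ER.toMonoidHom := rfl
  haveI : LA.Normal := hLA ▸ inferInstance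
  let eLA : LA ≃* L :=
    { toFun := fun q => ⟨ER q.1, q.2⟩
      invFun := fun q => ⟨ER.symm q.1, q.2⟩
      left_inv := fun _ => rfl
      right_inv := fun _ => rfl
      map_mul' := fun _ _ => rfl }
  haveI : IsSimpleGroup LA := eLA.isSimpleGroup
  have hLAp : commutator LA = ⊤ := by
    have h := congrArg (Subgroup.map eLA.symm.toMonoidHom) hLp
    rw [commutator_def, map_commutator, map_top_of_surjective _ eLA.symm.surjective] at h
    rwa [commutator_def]
  have hLAc : centralizer (LA : Set θA.range) = ⊥ := by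
    rw [eq_bot_iff]
    intro z hz
    have h1 : ER z ∈ centralizer (L : Set θ.range) := mem_centralizer_iff.2 fun l hl =>
      congrArg ER (mem_centralizer_iff.1 hz (ER.symm l) hl)
    rw [hLc, mem_bot] at h1
    rw [mem_bot]
    exact ER.injective (h1.trans (map_one ER).symm)
  have hwA : θA.rangeRestrict (π.symm w) ∈ LA := by
    refine mem_subgroupOf.2 ?_
    show θ (π (π.symm w)) ∈ L0
    rw [π.apply_symm_apply]
    exact mem_subgroupOf.1 hwL
  have hmvA : ((π.symm w : A)) * xA 0 * ((π.symm w : A))⁻¹ ≠ xA 0 ∧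
      ((π.symm w : A)) * xA 0 * ((π.symm w : A))⁻¹ ≠ xA 0 * j := by
    have hw : α (π.symm w : A) = (w : MulAut Fi22) := α.apply_symm_apply _
    exact ⟨fun e => hmv.1 (by simpa [hw, hαx] using congrArg α e),
      fun e => hmv.2 (by simpa [hw, hαx, hjT] using congrArg α e)⟩
  obtain ⟨r1, r2, r3, hn, ⟨r4⟩⟩ := centralizer_structure basisA θA hkerA LA hLAp hLAc (π.symm w) hwA hmvA
    (((Nat.card_congr α.toEquiv).trans_le card_aut_le).trans_lt (by norm_num)) Q hQ
  haveI : Fact (Nat.Prime 2) := ⟨Nat.prime_two⟩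
  letI : Fintype (GaloisField 2 2) := Fintype.ofFinite _
  have hF : Fintype.card (GaloisField 2 2) = 4 := by
    rw [← Nat.card_eq_fintype_card, GaloisField.card 2 2 two_ne_zero]
    norm_num
  haveI : Fact (Fintype.card (GaloisField 2 2) = 2 ^ 2) := ⟨by rw [hF]; norm_num⟩
  obtain ⟨i0⟩ := CfsgLib.Classical.PSpThree.iso hF
  let e0 : L ≃* Cfsg.PSU 4 (GaloisField 2 2) 2 := eL.trans i0
  let κ : θ.range →* MulAut L := MulAut.conjNormal
  have hκ : Function.Injective κ := by
    rw [← MonoidHom.ker_eq_bot_iff, eq_bot_iff, ← hLc]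
    intro z hz
    rw [mem_centralizer_iff]
    intro l hl
    have h1 := congrArg Subtype.val (DFunLike.congr_fun (MonoidHom.mem_ker.1 hz) ⟨l, hl⟩)
    simp only [κ, MulAut.conjNormal_apply, MulAut.one_apply] at h1
    exact (mul_inv_eq_iff_eq_mul.1 h1).symm
  have hcP : Nat.card (Cfsg.PSU 4 (GaloisField 2 2) 2) = 25920 := by
    rw [← Nat.card_congr e0.toEquiv, hLcard]
  have hA : Nat.card (MulAut (Cfsg.PSU 4 (GaloisField 2 2) 2)) = 51840 := by
    rw [CfsgLib.KnownC.AutPSU.card_mulAut (by norm_num) (by norm_num) (p := 2) (f := 1) (by norm_num), hcP]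
    norm_num
  let κ' : θ.range →* MulAut (Cfsg.PSU 4 (GaloisField 2 2) 2) := (MulAut.congr e0).toMonoidHom.comp κ
  have hκ' : Function.Injective κ' := (MulAut.congr e0).injective.comp hκ
  haveI : Finite (MulAut (Cfsg.PSU 4 (GaloisField 2 2) 2)) := Nat.finite_of_card_ne_zero (by rw [hA]; norm_num)
  have hbij : Function.Bijective κ' :=
    (Nat.bijective_iff_injective_and_card κ').2 ⟨hκ', by rw [hA, hθr, hr]⟩
  exact ⟨r1, r2, r3, hn, GaloisField 2 2, inferInstance, inferInstance, hF,
    ⟨(r4.trans ER).trans (MulEquiv.ofBijective κ' hbij)⟩⟩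

end CfsgLib.Sporadic.FiTransfer.TwoCentral
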